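import Mathlib

/-!
# Overgroups of the semilinear group of an extension field: basic objects

`V` is a vector space over the field `E`, regarded as a vector space over the subfield `F`.
-/

set_option autoImplicit false
set_option linter.all false

namespace CfsgLib.Perm.ExtField

open Module

section Defs

variable {F : Type*} [Field F] {E : Type*} [Field E] [Algebra F E]
variable {V : Type*} [AddCommGroup V] [Module F V] [Module E V] [IsScalarTower F E V]

variable (E) in
/-- `g` normalises the scalars of `E` -/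
def IsNorm (g : V ≃ₗ[F] V) : Prop := ∀ e : E, ∃ e' : E, ∀ x : V, g (e • x) = e' • g x

/-- the functional vanishes on the line of `v` -/
def Kills (v : V) (ψ : V →ₗ[F] E) : Prop := ∀ e : E, ψ (e • v) = 0

theorem Kills.self {v : V} {ψ : V →ₗ[F] E} (h : Kills v ψ) : ψ v = 0 := by simpa using h 1

theorem kills_zero (v : V) : Kills (F := F) v (0 : V →ₗ[F] E) := fun e => rfl

theorem Kills.add {v : V} {ψ χ : V →ₗ[F] E} (h : Kills v ψ) (h' : Kills v χ) : Kills v (ψ + χ) :=
  fun e => by rw [LinearMap.add_apply, h, h', add_zero]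

theorem Kills.neg {v : V} {ψ : V →ₗ[F] E} (h : Kills v ψ) : Kills v (-ψ) :=
  fun e => by rw [LinearMap.neg_apply, h, neg_zero]

theorem Kills.comp {v : V} {ψ : V →ₗ[F] E} (h : Kills v ψ) (a : Module.End F E) : Kills v (a.comp ψ) :=
  fun e => by rw [LinearMap.comp_apply, h, map_zero]

theorem kills_of_linear {v : V} (φ : V →ₗ[E] E) (h : φ v = 0) : Kills v (φ.restrictScalars F) :=
  fun e => by rw [LinearMap.restrictScalars_apply, map_smul, h, smul_zero]

/-- the elation `x ↦ x + ψ x • v` -/
noncomputable def el (v : V) (ψ : V →ₗ[F] E) (h : Kills v ψ) : V ≃ₗ[F] V :=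
  LinearEquiv.ofLinearMap (LinearMap.id + ψ.smulRight v) (LinearMap.id + (-ψ).smulRight v)
    (LinearMap.ext fun x => by
      simp only [LinearMap.comp_apply, LinearMap.add_apply, LinearMap.id_apply, LinearMap.smulRight_apply,
        LinearMap.neg_apply, map_add, h, add_zero, neg_smul]
      simp [h _])
    (LinearMap.ext fun x => by
      simp only [LinearMap.comp_apply, LinearMap.add_apply, LinearMap.id_apply, LinearMap.smulRight_apply,
        LinearMap.neg_apply, map_add, h, add_zero, neg_smul]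
      simp [h _])

@[simp]
theorem el_apply (v : V) (ψ : V →ₗ[F] E) (h : Kills v ψ) (x : V) : el v ψ h x = x + ψ x • v := rfl

theorem el_zero (v : V) : el v (0 : V →ₗ[F] E) (kills_zero v) = 1 :=
  LinearEquiv.ext fun x => by simp [LinearEquiv.coe_one]

theorem el_mul (v : V) {ψ χ : V →ₗ[F] E} (h : Kills v ψ) (h' : Kills v χ) :
    el v ψ h * el v χ h' = el v (ψ + χ) (h.add h') := LinearEquiv.ext fun x => by
  rw [LinearEquiv.mul_apply, el_apply, el_apply, el_apply, map_add, h, add_zero, LinearMap.add_apply, add_smul]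
  abel

theorem el_inv (v : V) {ψ : V →ₗ[F] E} (h : Kills v ψ) : (el v ψ h)⁻¹ = el v (-ψ) h.neg := by
  refine inv_eq_of_mul_eq_one_right ?_
  rw [el_mul]
  exact LinearEquiv.ext fun x => by simp

theorem el_congr {v : V} {ψ χ : V →ₗ[F] E} (h : Kills v ψ) (h' : Kills v χ) (he : ψ = χ) :
    el v ψ h = el v χ h' := by subst he; rfl

theorem el_isNorm (v : V) (φ : V →ₗ[E] E) (h : φ v = 0) : IsNorm E (el v (φ.restrictScalars F) (kills_of_linear φ h)) :=
  fun e => ⟨e, fun x => by simp [smul_add, smul_smul]⟩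

theorem exists_fn {W : Submodule E V} {y : V} (hy : y ∉ W) :
    ∃ φ : V →ₗ[E] E, φ y = 1 ∧ ∀ w ∈ W, φ w = 0 := by
  obtain ⟨f, hf, hW⟩ := Submodule.exists_dual_map_eq_bot_of_notMem hy inferInstance
  refine ⟨(f y)⁻¹ • f, by simp [hf], fun w hw => ?_⟩
  have : f w = 0 := (Submodule.mem_bot E).1 (hW ▸ Submodule.mem_map_of_mem hw)
  simp [this]

theorem exists_fn_line {v y : V} (hy : y ∉ Submodule.span E {v}) :
    ∃ φ : V →ₗ[E] E, φ y = 1 ∧ φ v = 0 := by
  obtain ⟨φ, h1, h2⟩ := exists_fn hy
  exact ⟨φ, h1, h2 v (Submodule.mem_span_singleton_self v)⟩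

theorem exists_fn_one {v : V} (hv : v ≠ 0) : ∃ φ : V →ₗ[E] E, φ v = 1 := by
  obtain ⟨φ, h1, -⟩ := exists_fn (W := (⊥ : Submodule E V)) (y := v) (by simpa using hv)
  exact ⟨φ, h1⟩

omit [Module F V] [IsScalarTower F E V] in
theorem exists_notMem_line (hm : 2 ≤ finrank E V) (v : V) : ∃ u : V, u ∉ Submodule.span E ({v} : Set V) := by
  by_contra hcon
  push Not at hcon
  have htop : Submodule.span E {v} = ⊤ := Submodule.eq_top_iff'.2 hcon
  rcases eq_or_ne v 0 with rfl | hv
  · have : finrank E V = 0 := by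
      rw [← finrank_top, ← htop]
      simp
    omega
  · have := finrank_span_singleton (K := E) hv
    rw [htop, finrank_top] at this
    omega

theorem notMem_line_symm {v w : V} (hv : v ≠ 0) (h : w ∉ Submodule.span E {v}) :
    v ∉ Submodule.span E {w} := by
  intro h'
  obtain ⟨e, rfl⟩ := Submodule.mem_span_singleton.1 h'
  have he : e ≠ 0 := fun he => hv (by rw [he, zero_smul])
  exact h (Submodule.mem_span_singleton.2 ⟨e⁻¹, by rw [smul_smul, inv_mul_cancel₀ he, one_smul]⟩)

/-- a map fixing every line is semilinear -/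
theorem isNorm_of_lines [Finite V] (hm : 2 ≤ finrank E V) {g : V ≃ₗ[F] V}
    (h : ∀ (v : V) (e : E), g (e • v) ∈ Submodule.span E {g v}) : IsNorm E g := by
  intro e
  choose c hc using fun v => Submodule.mem_span_singleton.1 (h v e)
  have hind : ∀ v w : V, v ≠ 0 → w ∉ Submodule.span E {v} → g w ∉ Submodule.span E {g v} := by
    intro v w hv hw hcon
    have hmaps : Set.MapsTo g (Submodule.span E {v}) (Submodule.span E {g v}) := fun x hx => by
      obtain ⟨a, rfl⟩ := Submodule.mem_span_singleton.1 hx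
      exact h v a
    have hcard : Nat.card (Submodule.span E {v}) = Nat.card (Submodule.span E {g v}) := by
      have hgv : g v ≠ 0 := fun hh => hv (g.map_eq_zero_iff.1 hh)
      exact Nat.card_congr ((LinearEquiv.toSpanNonzeroSingleton E V v hv).symm.trans
        (LinearEquiv.toSpanNonzeroSingleton E V (g v) hgv)).toEquiv
    let f : Submodule.span E {v} → Submodule.span E {g v} := fun x => ⟨g x, hmaps x.2⟩
    have hf : Function.Bijective f := (Nat.bijective_iff_injective_and_card f).2
      ⟨fun a b hab => Subtype.ext (g.injective (congrArg Subtype.val hab)), hcard⟩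
    obtain ⟨x, hx⟩ := hf.2 ⟨g w, hcon⟩
    exact hw (g.injective (congrArg Subtype.val hx) ▸ x.2)
  have key : ∀ v w : V, v ≠ 0 → w ∉ Submodule.span E {v} → c v = c w := by
    intro v w hv hw
    have h1 : c v • g v + c w • g w = c (v + w) • g v + c (v + w) • g w := by
      rw [← smul_add (c (v + w)) (g v), hc v, hc w, ← map_add g v w, hc (v + w), smul_add, map_add]
    have h2 : (c v - c (v + w)) • g v + (c w - c (v + w)) • g w = 0 := by
      rw [sub_smul, sub_smul,
        show c v • g v - c (v + w) • g v + (c w • g w - c (v + w) • g w)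
          = (c v • g v + c w • g w) - (c (v + w) • g v + c (v + w) • g w) by abel, h1, sub_self]
    by_cases hcw : c w - c (v + w) = 0
    · rw [hcw, zero_smul, add_zero, smul_eq_zero] at h2
      rcases h2 with h2 | h2
      · exact (sub_eq_zero.1 h2).trans (sub_eq_zero.1 hcw).symm
      · exact absurd (g.map_eq_zero_iff.1 h2) hv
    · exfalso
      refine hind v w hv hw (Submodule.mem_span_singleton.2 ⟨-((c w - c (v + w))⁻¹ * (c v - c (v + w))), ?_⟩)
      rw [neg_smul, ← smul_smul,
        eq_neg_of_add_eq_zero_left h2, smul_neg, neg_neg, smul_smul, inv_mul_cancel₀ hcw, one_smul]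
  obtain ⟨v₀, hv₀⟩ : ∃ v : V, v ≠ 0 := by
    obtain ⟨u, hu⟩ := exists_notMem_line hm (0 : V)
    exact ⟨u, fun hh => hu (by rw [hh]; exact Submodule.zero_mem _)⟩
  refine ⟨c v₀, fun x => ?_⟩
  rcases eq_or_ne x 0 with rfl | hx
  · simp
  rw [← hc x]
  congr 1
  by_cases hxl : x ∈ Submodule.span E {v₀}
  · obtain ⟨u, hu⟩ := exists_notMem_line hm v₀
    have hux : u ∉ Submodule.span E {x} := fun hh =>
      hu ((Submodule.span_singleton_le_iff_mem _ _).2 hxl hh)
    rw [key x u hx hux, key v₀ u hv₀ hu]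
  · rw [key v₀ x hv₀ hxl]

theorem IsNorm.map_line {g : V ≃ₗ[F] V} (h : IsNorm E g) (v : V) (e : E) :
    g (e • v) ∈ Submodule.span E {g v} := by
  obtain ⟨e', he⟩ := h e
  exact Submodule.mem_span_singleton.2 ⟨e', (he v).symm⟩

end Defs

section Det

variable {F : Type*} [Field F] {E : Type*} [Field E] [Algebra F E]
variable {V : Type*} [AddCommGroup V] [Module F V] [Module E V] [IsScalarTower F E V]
variable [FiniteDimensional F E] [FiniteDimensional E V] [FiniteDimensional F V]

theorem det_of_transvection {g : V ≃ₗ[F] V} (φ : V →ₗ[E] E) (w : V)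
    (h : ∀ x, g x = x + φ x • w) : (LinearEquiv.det g : F) = Algebra.norm F (1 + φ w) := by
  have he : (g : V →ₗ[F] V) = (LinearMap.transvection φ w).restrictScalars F :=
    LinearMap.ext fun x => by simp [h x, LinearMap.transvection.apply]
  rw [LinearEquiv.coe_det, he, LinearMap.det_restrictScalars, LinearMap.transvection.det]

theorem det_el (v : V) (φ : V →ₗ[E] E) (h : φ v = 0) :
    LinearEquiv.det (el v (φ.restrictScalars F) (kills_of_linear φ h)) = 1 := by
  refine Units.ext ?_
  rw [det_of_transvection φ v (fun x => rfl), h, add_zero, map_one, Units.val_one]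

theorem det_eq_one_of_pow {p : ℕ} [Fact p.Prime] [CharP F p] {g : V ≃ₗ[F] V} {k : ℕ}
    (h : g ^ (p ^ k) = 1) : LinearEquiv.det g = 1 := by
  refine Units.ext ?_
  have h1 : ((LinearEquiv.det g : F) ) ^ (p ^ k) = 1 := by
    rw [← Units.val_pow_eq_pow_val, ← map_pow, h, map_one, Units.val_one]
  exact iterateFrobenius_inj F p k (by rw [iterateFrobenius_def, h1, Units.val_one, map_one])

end Det

section Transitive

variable {F : Type*} [Field F] [Finite F] {E : Type*} [Field E] [Algebra F E]
variable {V : Type*} [AddCommGroup V] [Module F V] [Module E V] [IsScalarTower F E V]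
variable [FiniteDimensional F E] [FiniteDimensional E V] [FiniteDimensional F V]

theorem exists_move_of_notMem {v w : V} (h : v ∉ Submodule.span E {w - v}) :
    ∃ g : V ≃ₗ[F] V, LinearEquiv.det g = 1 ∧ IsNorm E g ∧ g v = w ∧ ∀ (e : E) (x : V), g (e • x) = e • g x := by
  obtain ⟨φ, h1, h2⟩ := exists_fn_line h
  refine ⟨el (w - v) (φ.restrictScalars F) (kills_of_linear φ h2), det_el _ _ h2, el_isNorm _ _ h2, ?_, ?_⟩
  · simp [h1]
  · intro e x
    simp [smul_add, smul_smul]

/-- the special `E`-linear group is transitive on non-zero vectors -/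
theorem exists_move (hm : 2 ≤ finrank E V) {v w : V} (hv : v ≠ 0) (hw : w ≠ 0) :
    ∃ g : V ≃ₗ[F] V, LinearEquiv.det g = 1 ∧ IsNorm E g ∧ g v = w ∧ ∀ (e : E) (x : V), g (e • x) = e • g x := by
  by_cases hl : w ∈ Submodule.span E {v}
  · obtain ⟨u, hu⟩ := exists_notMem_line hm v
    have huw : u ∉ Submodule.span E {w} := fun hh =>
      hu ((Submodule.span_singleton_le_iff_mem _ _).2 hl hh)
    have hu0 : u ≠ 0 := fun hh => hu (by rw [hh]; exact Submodule.zero_mem _)
    obtain ⟨g₁, d₁, n₁, e₁, l₁⟩ := exists_move_of_notMem (F := F) (v := v) (w := u) (fun hh => by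
      obtain ⟨a, ha⟩ : ∃ a : E, a • _ = _ := Submodule.mem_span_singleton.1 hh
      rcases eq_or_ne a 0 with rfl | ha0
      · exact hv (by rw [← ha, zero_smul])
      · refine hu (Submodule.mem_span_singleton.2 ⟨a⁻¹ + 1, ?_⟩)
        have h1 : u - v = a⁻¹ • v := by rw [← inv_smul_smul₀ ha0 (u - v), ha]
        rw [add_smul, one_smul, ← h1, sub_add_cancel])
    obtain ⟨g₂, d₂, n₂, e₂, l₂⟩ := exists_move_of_notMem (F := F) (v := u) (w := w) (fun hh => by
      obtain ⟨a, ha⟩ : ∃ a : E, a • _ = _ := Submodule.mem_span_singleton.1 hh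
      rcases eq_or_ne a 0 with rfl | ha0
      · exact hu0 (by rw [← ha, zero_smul])
      · have h1 : w - u = a⁻¹ • u := by rw [← inv_smul_smul₀ ha0 (w - u), ha]
        have h2 : w = (a⁻¹ + 1) • u := by rw [add_smul, one_smul, ← h1, sub_add_cancel]
        rw [h2] at huw
        have : (a⁻¹ + 1) ≠ 0 := fun hz => hw (by rw [h2, hz, zero_smul])
        exact huw (Submodule.mem_span_singleton.2 ⟨(a⁻¹ + 1)⁻¹, by rw [smul_smul, inv_mul_cancel₀ this, one_smul]⟩))
    refine ⟨g₂ * g₁, by rw [map_mul, d₁, d₂, one_mul], fun e => ⟨e, fun x => ?_⟩, ?_, fun e x => ?_⟩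
    · rw [LinearEquiv.mul_apply, LinearEquiv.mul_apply, l₁, l₂]
    · rw [LinearEquiv.mul_apply, e₁, e₂]
    · rw [LinearEquiv.mul_apply, LinearEquiv.mul_apply, l₁, l₂]
  · refine exists_move_of_notMem (F := F) (fun hh => hl ?_)
    obtain ⟨a, ha⟩ : ∃ a : E, a • _ = _ := Submodule.mem_span_singleton.1 hh
    rcases eq_or_ne a 0 with rfl | ha0
    · exact absurd (by rw [← ha, zero_smul]) hv
    · refine Submodule.mem_span_singleton.2 ⟨a⁻¹ + 1, ?_⟩
      have h1 : w - v = a⁻¹ • v := by rw [← inv_smul_smul₀ ha0 (w - v), ha]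
      rw [add_smul, one_smul, ← h1, sub_add_cancel]

end Transitive

end CfsgLib.Perm.ExtField
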