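import Cfsg.Agent.Lib.Perm.ExtField.Matrix

/-!
# The normaliser of a field subalgebra of composite degree is not maximal
-/

set_option autoImplicit false
set_option linter.all false

namespace CfsgLib.Perm.ExtField

open Matrix Module Cfsg Cfsg.Geo

variable {F : Type*} [Field F] [Fintype F] {n : ℕ}

theorem isField_of_fieldSubalgebra {r : ℕ} (hn : 0 < n) {K : Subalgebra F (Matrix (Fin n) (Fin n) F)}
    (hK : IsFieldSubalgebra r K) : IsField K := by
  haveI : Nonempty (Fin n) := ⟨⟨0, hn⟩⟩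
  haveI : Nontrivial K := ⟨⟨0, 1, fun h => zero_ne_one (congrArg Subtype.val h :)⟩⟩
  exact { exists_pair_ne := ⟨0, 1, zero_ne_one⟩
          mul_comm := fun a b => Subtype.ext (hK.comm _ a.2 _ b.2)
          mul_inv_cancel := fun {a} ha => by
            obtain ⟨y, hy, h⟩ := hK.inv _ a.2 fun h => ha (Subtype.ext h)
            exact ⟨⟨y, hy⟩, Subtype.ext h⟩ }

/-- The subfield of degree `s`, cut out by a power map. -/
theorem exists_subfield {r s : ℕ} (hn : 0 < n) (hs : 0 < s) (hsr : s ∣ r)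
    {K : Subalgebra F (Matrix (Fin n) (Fin n) F)} (hK : IsFieldSubalgebra r K) :
    ∃ L : Subalgebra F (Matrix (Fin n) (Fin n) F), L ≤ K ∧ IsFieldSubalgebra s L ∧
      ∀ k, k ∈ L ↔ k ∈ K ∧ k ^ (Nat.card F ^ s) = k := by
  classical
  haveI : Nonempty (Fin n) := ⟨⟨0, hn⟩⟩
  letI : Field K := (isField_of_fieldSubalgebra hn hK).toField
  haveI : Finite K := Subtype.finite
  haveI : FiniteDimensional F K := Module.Finite.of_finite
  obtain ⟨p, hp⟩ := CharP.exists F
  haveI : Fact p.Prime := ⟨CharP.char_is_prime F p⟩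
  haveI : NeZero s := ⟨hs.ne'⟩
  obtain ⟨ι⟩ : Nonempty (FiniteField.Extension F p s →ₐ[F] K) :=
    FiniteField.nonempty_algHom_of_finrank_dvd (by rw [FiniteField.finrank_extension, hK.finrank_eq]; exact hsr)
  let j : FiniteField.Extension F p s →ₐ[F] Matrix (Fin n) (Fin n) F := K.val.comp ι
  have hj : Function.Injective j := fun a b h => ι.injective (Subtype.ext h)
  refine ⟨j.range, fun k hk => ?_, ⟨?_, ?_, ?_⟩, fun k => ⟨fun hk => ?_, ?_⟩⟩
  · obtain ⟨a, rfl⟩ := hk
    exact (ι a).2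
  · rintro _ ⟨a, rfl⟩ _ ⟨b, rfl⟩
    show j a * j b = j b * j a
    rw [← map_mul, ← map_mul, mul_comm]
  · rintro _ ⟨a, rfl⟩ ha
    refine ⟨j a⁻¹, ⟨_, rfl⟩, ?_⟩
    show j a * j a⁻¹ = 1
    rw [← map_mul, mul_inv_cancel₀ (fun h => ha (by show j a = 0; rw [h, map_zero])), map_one]
  · rw [← (AlgEquiv.ofInjective j hj).toLinearEquiv.finrank_eq, FiniteField.finrank_extension]
  · obtain ⟨a, rfl⟩ := hk
    refine ⟨(ι a).2, ?_⟩
    haveI := Fintype.ofFinite (FiniteField.Extension F p s)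
    show j a ^ _ = j a
    rw [← map_pow, ← FiniteField.natCard_extension (k := F) (p := p) (n := s), Nat.card_eq_fintype_card, FiniteField.pow_card]
  · rintro ⟨hk, hpow⟩
    by_contra hmem
    haveI := Fintype.ofFinite (FiniteField.Extension F p s)
    have hq : 1 < Nat.card F ^ s := Nat.one_lt_pow hs.ne' Finite.one_lt_card
    have hne := FiniteField.X_pow_card_sub_X_ne_zero K hq
    have hdeg := FiniteField.X_pow_card_sub_X_natDegree_eq K hq
    have hsub : insert (⟨k, hk⟩ : K) (Finset.univ.image ι) ⊆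
        (Polynomial.X ^ (Nat.card F ^ s) - Polynomial.X : Polynomial K).roots.toFinset := by
      intro x hx
      rw [Multiset.mem_toFinset, Polynomial.mem_roots hne, Polynomial.IsRoot.def, Polynomial.eval_sub,
        Polynomial.eval_pow, Polynomial.eval_X, sub_eq_zero]
      rcases Finset.mem_insert.1 hx with rfl | hx
      · exact Subtype.ext hpow
      · obtain ⟨a, -, rfl⟩ := Finset.mem_image.1 hx
        rw [← map_pow, ← FiniteField.natCard_extension (k := F) (p := p) (n := s), Nat.card_eq_fintype_card, FiniteField.pow_card]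
    have h1 := (Finset.card_le_card hsub).trans ((Multiset.toFinset_card_le _).trans
      (Polynomial.card_roots' _))
    rw [hdeg, Finset.card_insert_of_notMem, Finset.card_image_of_injective _ (show Function.Injective (ι : _ → K) from fun a b h => hj (congrArg Subtype.val h)),
      Finset.card_univ, ← Nat.card_eq_fintype_card, FiniteField.natCard_extension] at h1
    · omega
    · intro hx
      obtain ⟨a, -, ha⟩ := Finset.mem_image.1 hx
      exact hmem ⟨a, congrArg Subtype.val ha⟩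

/-- An element of the larger normaliser of determinant one outside the smaller one. -/
theorem exists_outside {r s : ℕ} (hsr : s < r) (hlt : r < n)
    {K L : Subalgebra F (Matrix (Fin n) (Fin n) F)} (hK : IsFieldSubalgebra r K) (hL : IsFieldSubalgebra s L)
    (hLK : L ≤ K) :
    ∃ g ∈ subalgebraNormalizer L ⊓ specialLinear (Fin n) F, g ∉ subalgebraNormalizer K := by
  classical
  have hn : 0 < n := by omega
  haveI : Nonempty (Fin n) := ⟨⟨0, hn⟩⟩
  letI : Field L := (isField_of_fieldSubalgebra hn hL).toField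
  have hsmulL : ∀ (k : L) (x : Fin n → F), k • x = (k : Matrix (Fin n) (Fin n) F) *ᵥ x := fun k x => rfl
  haveI : IsScalarTower F L (Fin n → F) := ⟨fun c k x => by
    rw [hsmulL, hsmulL, Subalgebra.coe_smul, Matrix.smul_mulVec]⟩
  haveI : Finite L := Subtype.finite
  haveI : FiniteDimensional F L := Module.Finite.of_finite
  haveI : FiniteDimensional L (Fin n → F) := Module.Finite.of_finite
  obtain ⟨k, hk, hkL⟩ : ∃ k ∈ K, k ∉ L := by
    by_contra hcon
    push Not at hcon
    have h1 : (K.toSubmodule : Submodule F (Matrix (Fin n) (Fin n) F)) = L.toSubmodule :=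
      le_antisymm hcon hLK
    have h2 : finrank F K = finrank F L := by
      show finrank F K.toSubmodule = finrank F L.toSubmodule
      rw [h1]
    rw [hK.finrank_eq, hL.finrank_eq] at h2
    omega
  obtain ⟨w, hw0⟩ : ∃ w : Fin n → F, w ≠ 0 := ⟨Pi.single ⟨0, hn⟩ 1, by simp [Pi.single_eq_zero_iff]⟩
  have hinv : ∀ a ∈ K, a *ᵥ w = 0 → a = 0 := by
    intro a ha h
    by_contra ha0
    obtain ⟨b, hb, hab⟩ := hK.inv a ha ha0
    refine hw0 ?_
    rw [← one_mulVec w, ← hab, hK.comm a ha b hb, ← mulVec_mulVec, h, mulVec_zero]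
  have hk0 : k ≠ 0 := fun h => hkL (h ▸ L.zero_mem)
  obtain ⟨φ, hφw, hφ0⟩ := exists_fn (E := L) (W := Submodule.span L {k *ᵥ w}) (y := w) (by
    intro hcon
    obtain ⟨c, hc⟩ := Submodule.mem_span_singleton.1 hcon
    rw [hsmulL, mulVec_mulVec] at hc
    have h1 := hinv _ (K.sub_mem (K.mul_mem (hLK c.2) hk) K.one_mem) (by rw [sub_mulVec, hc, one_mulVec, sub_self])
    rw [sub_eq_zero] at h1
    have hc0 : c ≠ 0 := fun h => by rw [h, Subalgebra.coe_zero, zero_mul] at h1; exact zero_ne_one h1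
    refine hkL ?_
    have h2 : (c⁻¹ : L).1 = k := by
      calc (c⁻¹ : L).1 = (c⁻¹ : L).1 * (c.1 * k) := by rw [h1, mul_one]
        _ = ((c⁻¹ * c : L) : Matrix (Fin n) (Fin n) F) * k := by rw [← mul_assoc]; rfl
        _ = k := by rw [inv_mul_cancel₀ hc0, Subalgebra.coe_one, one_mul]
    exact h2 ▸ (c⁻¹ : L).2)
  obtain ⟨y, hy⟩ : ∃ y : Fin n → F, ∀ a ∈ K, a *ᵥ w ≠ y := by
    by_contra hcon
    push Not at hcon
    have h1 : Nat.card (Fin n → F) ≤ Nat.card K := Nat.card_le_card_of_surjective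
      (fun a : K => (a : Matrix (Fin n) (Fin n) F) *ᵥ w) fun y => by
        obtain ⟨a, ha, h⟩ := hcon y; exact ⟨⟨a, ha⟩, h⟩
    haveI : FiniteDimensional F K := Module.Finite.of_finite
    rw [Module.natCard_eq_pow_finrank (K := F), Module.natCard_eq_pow_finrank (K := F) (V := K),
      Module.finrank_fintype_fun_eq_card, Fintype.card_fin, hK.finrank_eq] at h1
    exact absurd h1 (not_le.2 (Nat.pow_lt_pow_right Finite.one_lt_card hlt))
  obtain ⟨u, hu, huw⟩ : ∃ u, φ u = 0 ∧ ∀ a ∈ K, a *ᵥ w ≠ u := by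
    refine ⟨y - φ y • w, by rw [map_sub, map_smul, hφw, smul_eq_mul, mul_one, sub_self], fun a ha h => ?_⟩
    refine hy (a + ((φ y : L) : Matrix (Fin n) (Fin n) F)) (K.add_mem ha (hLK (φ y).2)) ?_
    rw [add_mulVec, h, ← hsmulL, sub_add_cancel]
  have hunit : IsUnit (1 + φ u) := by rw [hu, add_zero]; exact isUnit_one
  let d : (Fin n → F) ≃ₗ[F] (Fin n → F) := (LinearEquiv.dilatransvection hunit).restrictScalars F
  have hd : ∀ x, d x = x + φ x • u := fun x => LinearEquiv.dilatransvection.apply (h := hunit)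
  obtain ⟨g, hg⟩ : ∃ g : GL (Fin n) F, glEquiv g = d := ⟨glEquiv.symm d, MulEquiv.apply_symm_apply _ _⟩
  have hgx : ∀ x, (g : Matrix (Fin n) (Fin n) F) *ᵥ x = x + φ x • u := fun x => by
    rw [← glEquiv_apply, hg, hd]
  have hcomm : ∀ l ∈ L, (g : Matrix (Fin n) (Fin n) F) * l = l * g := by
    intro l hl
    refine Matrix.ext_iff_mulVec.2 fun x => ?_
    rw [← mulVec_mulVec, ← mulVec_mulVec, hgx, hgx, ← hsmulL ⟨l, hl⟩ x, map_smul, mulVec_add,
      ← hsmulL ⟨l, hl⟩ x, ← hsmulL ⟨l, hl⟩ (φ x • u), smul_eq_mul, mul_smul]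
  refine ⟨g, ⟨fun l => ⟨fun hl => ?_, fun hl => ?_⟩, ?_⟩, fun hN => ?_⟩
  · rw [hcomm l hl, mul_assoc, Units.mul_inv, mul_one]; exact hl
  · have h1 := hcomm _ hl
    rw [mul_assoc ((g : Matrix (Fin n) (Fin n) F) * l), Units.inv_mul, mul_one] at h1
    rw [(Units.mul_right_inj g).1 h1.symm]
    exact hl
  · refine (mem_specialLinear_iff g).2 (Units.ext ?_)
    rw [← det_glEquiv, hg, det_of_transvection φ _ hd, hu, add_zero, map_one]
    rfl
  · obtain ⟨k', hk', hkg⟩ : ∃ k' ∈ K, (g : Matrix (Fin n) (Fin n) F) * k = k' * g :=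
      ⟨_, (hN k).1 hk, by rw [mul_assoc ((g : Matrix (Fin n) (Fin n) F) * k), Units.inv_mul, mul_one]⟩
    have h1 := congrArg (· *ᵥ w) hkg
    simp only [← mulVec_mulVec, hgx, hφw, one_smul, hφ0 _ (Submodule.mem_span_singleton_self _), zero_smul,
      add_zero] at h1
    have hk'0 : k' ≠ 0 := by
      intro h
      rw [h, zero_mulVec] at h1
      exact hk0 (hinv k hk h1)
    obtain ⟨b, hb, hkb⟩ := hK.inv k' hk' hk'0
    refine huw (b * k - 1) (K.sub_mem (K.mul_mem hb hk) K.one_mem) ?_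
    rw [sub_mulVec, one_mulVec, ← mulVec_mulVec, h1, mulVec_mulVec, ← hK.comm k' hk' b hb, hkb, one_mulVec,
      add_sub_cancel_left]

/-- Composite degree. -/
theorem extField_not_maximal (r : ℕ) (hr1 : 1 < r) (hrp : ¬ r.Prime) (hrn : r ∣ n) (hlt : r < n)
    (K : Subalgebra F (Matrix (Fin n) (Fin n) F)) (hK : IsFieldSubalgebra r K) :
    ¬ IsCoatom (subalgebraNormalizer K) ∧
      ¬ IsMaximalIn (specialLinear (Fin n) F) (subalgebraNormalizer K ⊓ specialLinear (Fin n) F) := by
  have hs : r.minFac.Prime := Nat.minFac_prime (by omega)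
  have hsr : r.minFac < r := lt_of_le_of_ne (Nat.minFac_le (by omega)) fun h => hrp (h ▸ hs)
  obtain ⟨L, hLK, hL, hmem⟩ := exists_subfield (by omega) hs.pos (Nat.minFac_dvd r) hK
  obtain ⟨hco, hmax⟩ := extField_maximal r.minFac hs ((Nat.minFac_dvd r).trans hrn) (by omega) L hL
  have hle : subalgebraNormalizer K ≤ subalgebraNormalizer L := by
    intro g hg k
    rw [hmem, hmem, ← hg k, Units.conj_pow]
    refine and_congr_right fun _ => ?_
    constructor
    · intro h; rw [h]
    · intro h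
      exact (Units.mul_right_inj g).1 ((Units.mul_left_inj g⁻¹).1 h)
  obtain ⟨g, ⟨hgL, hgS⟩, hgK⟩ := exists_outside hsr hlt hK hL hLK
  refine ⟨fun hc => hco.1 (hc.2 _ (lt_of_le_of_ne hle fun h => hgK (h ▸ hgL))), fun hm => ?_⟩
  rcases hm.2 (subalgebraNormalizer L ⊓ specialLinear (Fin n) F) (inf_le_inf_right _ hle) inf_le_right with h | h
  · exact hgK ((h ▸ Subgroup.mem_inf.2 ⟨hgL, hgS⟩ : g ∈ subalgebraNormalizer K ⊓ specialLinear (Fin n) F).1)
  · exact hmax.1.ne h

end CfsgLib.Perm.ExtField
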