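import Cfsg.Agent.Lib.Perm.ExtField.Basic

/-!
# The elations of an overgroup

For an overgroup of the determinant one part of the semilinear group, either all elations at a point line lie in
the group, or a point-line stabiliser acts semilinearly on the line.
-/

set_option autoImplicit false
set_option linter.all false

namespace CfsgLib.Perm.ExtField

open Module

section

variable {F : Type*} [Field F] {E : Type*} [Field E] [Algebra F E]
variable {V : Type*} [AddCommGroup V] [Module F V] [Module E V] [IsScalarTower F E V]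

variable (E) in
/-- an overgroup of the semilinear group inside the special linear group -/
structure Setup (M : Subgroup (V ≃ₗ[F] V)) : Prop where
  prime : (finrank F E).Prime
  two_le : 2 ≤ finrank E V
  le_SL : ∀ g ∈ M, LinearEquiv.det g = 1
  norm_le : ∀ g : V ≃ₗ[F] V, LinearEquiv.det g = 1 → IsNorm E g → g ∈ M

variable (E) in
/-- the functionals whose elation lies in `M` -/
def Y (M : Subgroup (V ≃ₗ[F] V)) (v : V) : AddSubgroup (V →ₗ[F] E) where
  carrier := {ψ | ∃ h : Kills v ψ, el v ψ h ∈ M}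
  add_mem' := by
    rintro ψ χ ⟨h, hm⟩ ⟨h', hm'⟩
    exact ⟨h.add h', el_mul v h h' ▸ M.mul_mem hm hm'⟩
  zero_mem' := ⟨kills_zero v, (el_zero (F := F) (E := E) v).symm ▸ M.one_mem⟩
  neg_mem' := by
    rintro ψ ⟨h, hm⟩
    exact ⟨h.neg, el_inv v h ▸ M.inv_mem hm⟩

variable (E) in
/-- all elations at `v` lie in `M` -/
def All (M : Subgroup (V ≃ₗ[F] V)) (v : V) : Prop := ∀ ψ : V →ₗ[F] E, Kills v ψ → ψ ∈ Y E M v

theorem mem_Y {M : Subgroup (V ≃ₗ[F] V)} {v : V} {ψ : V →ₗ[F] E} :
    ψ ∈ Y E M v ↔ ∃ h : Kills v ψ, el v ψ h ∈ M := Iff.rfl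

theorem el_mem_of_Y {M : Subgroup (V ≃ₗ[F] V)} {v : V} {ψ : V →ₗ[F] E} (hψ : ψ ∈ Y E M v) (h : Kills v ψ) :
    el v ψ h ∈ M := hψ.2

/-- conjugation of an elation -/
theorem conj_el {g : V ≃ₗ[F] V} {v w : V} {a : E →ₗ[F] E} (hg : ∀ e : E, g (e • v) = a e • w)
    {ψ : V →ₗ[F] E} (h : Kills v ψ) (h' : Kills w (a.comp (ψ.comp (g⁻¹ : V ≃ₗ[F] V).toLinearMap))) :
    g * el v ψ h * g⁻¹ = el w (a.comp (ψ.comp (g⁻¹ : V ≃ₗ[F] V).toLinearMap)) h' := by
  refine LinearEquiv.ext fun x => ?_
  rw [LinearEquiv.mul_apply, LinearEquiv.mul_apply, el_apply, el_apply, map_add, hg]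
  congr 1
  exact g.apply_symm_apply x

variable (E) in
/-- the idealiser of `Y` -/
def ID (M : Subgroup (V ≃ₗ[F] V)) (v : V) : Subring (Module.End F E) where
  carrier := {h | ∀ ψ ∈ Y E M v, h.comp ψ ∈ Y E M v}
  mul_mem' := fun {a b} ha hb ψ hψ => by
    rw [Module.End.mul_eq_comp, LinearMap.comp_assoc]
    exact ha _ (hb ψ hψ)
  one_mem' := fun ψ hψ => by rw [Module.End.one_eq_id, LinearMap.id_comp]; exact hψ
  add_mem' := fun {a b} ha hb ψ hψ => by
    rw [LinearMap.add_comp]
    exact (Y E M v).add_mem (ha ψ hψ) (hb ψ hψ)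
  zero_mem' := fun ψ hψ => by rw [LinearMap.zero_comp]; exact (Y E M v).zero_mem
  neg_mem' := fun {a} ha ψ hψ => by
    rw [LinearMap.neg_comp]
    exact (Y E M v).neg_mem (ha ψ hψ)

end

section Finite

variable {F : Type*} [Field F] [Finite F] {E : Type*} [Field E] [Algebra F E] [FiniteDimensional F E] [Finite E]
variable {V : Type*} [AddCommGroup V] [Module F V] [Module E V] [IsScalarTower F E V]
variable [FiniteDimensional E V] [FiniteDimensional F V] [Finite V]

/-- a ring of endomorphisms of `E` containing the scalars and a non-linear map is everything -/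
theorem subring_eq_top (hr : (finrank F E).Prime) (A : Subring (Module.End F E))
    (hA : ∀ e : E, Algebra.lmul F E e ∈ A) {h : Module.End F E} (hh : h ∈ A)
    (hne : ∃ e x : E, h (e * x) ≠ e * h x) : A = ⊤ := by
  classical
  haveI : IsSimpleModule A E := by
    refine isSimpleModule_iff _ _ |>.2 ?_
    refine { toNontrivial := ?_, eq_bot_or_eq_top := fun W => ?_ }
    · exact ⟨⊥, ⊤, fun hbt => one_ne_zero ((Submodule.mem_bot A).1
        (hbt.symm ▸ (Submodule.mem_top : (1 : E) ∈ (⊤ : Submodule A E))))⟩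
    · refine or_iff_not_imp_left.2 fun hW => Submodule.eq_top_iff'.2 fun x => ?_
      obtain ⟨y, hy, hy0⟩ := Submodule.exists_mem_ne_zero_of_ne_bot hW
      have h1 := W.smul_mem (⟨Algebra.lmul F E (x * y⁻¹), hA _⟩ : A) hy
      have h2 : (⟨Algebra.lmul F E (x * y⁻¹), hA _⟩ : A) • y = x * y⁻¹ * y := rfl
      rwa [h2, inv_mul_cancel_right₀ hy0] at h1
  haveI : Module.Finite (Module.End A E) E := Module.Finite.of_finite
  refine eq_top_iff.2 fun f _ => ?_
  -- every commuting map is an element of `F`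
  have key : ∀ g : Module.End A E, ∃ c : F, ∀ x : E, g x = c • x := by
    intro g
    have hg : ∀ (t : Module.End F E), t ∈ A → ∀ x, g (t x) = t (g x) := fun t ht x =>
      g.map_smul (⟨t, ht⟩ : A) x
    have hlin : ∀ x : E, g x = x * g 1 := fun x => by
      have := hg _ (hA x) 1
      simpa using this
    let C : Subalgebra F E :=
      { carrier := {c | ∀ x, h (c * x) = c * h x}
        mul_mem' := fun {a b} ha hb x => by
          show h (a * b * x) = a * b * h x
          rw [mul_assoc, ha, hb, mul_assoc]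
        add_mem' := fun {a b} ha hb x => by
          show h ((a + b) * x) = (a + b) * h x
          rw [add_mul, map_add, ha, hb, add_mul]
        algebraMap_mem' := fun c x => by
          show h (algebraMap F E c * x) = algebraMap F E c * h x
          rw [← Algebra.smul_def, map_smul, Algebra.smul_def] }
    have hC : C = ⊥ := by
      haveI := Subalgebra.isSimpleOrder_of_finrank_prime F E hr
      refine (eq_bot_or_eq_top C).resolve_right fun htop => ?_
      obtain ⟨e, x, hex⟩ := hne
      exact hex ((show e ∈ C from htop ▸ Algebra.mem_top) x)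
    have hmem : g 1 ∈ C := fun x => by
      have := hg h hh x
      rw [hlin, hlin x] at this
      rw [mul_comm (g 1) x, ← this, mul_comm]
    rw [hC, Algebra.mem_bot] at hmem
    obtain ⟨c, hc⟩ := hmem
    exact ⟨c, fun x => by rw [hlin, ← hc, Algebra.smul_def, mul_comm]⟩
  let f' : Module.End (Module.End A E) E :=
    { toFun := f
      map_add' := f.map_add
      map_smul' := fun g x => by
        obtain ⟨c, hc⟩ := key g
        simp only [Module.End.smul_def, hc, RingHom.id_apply, map_smul] }
  obtain ⟨t, ht⟩ := Module.Finite.toModuleEnd_moduleEnd_surjective (R := A) (M := E) f'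
  have : (t : Module.End F E) = f := LinearMap.ext fun x => congrArg (fun φ : Module.End (Module.End A E) E => φ x) ht
  exact this ▸ t.2

variable {M : Subgroup (V ≃ₗ[F] V)}

theorem Setup.mem_of_linear (S : Setup E M) {v : V} (φ : V →ₗ[E] E) (h : φ v = 0) :
    φ.restrictScalars F ∈ Y E M v :=
  ⟨kills_of_linear φ h, S.norm_le _ (det_el v φ h) (el_isNorm v φ h)⟩

/-- moving the elations by an element of `M` -/
theorem Setup.conj_mem (S : Setup E M) {g : V ≃ₗ[F] V} (hg : g ∈ M) {v : V} (hv : v ≠ 0) {a : E →ₗ[F] E}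
    (hga : ∀ e : E, g (e • v) = a e • v) {ψ : V →ₗ[F] E} (hψ : ψ ∈ Y E M v) :
    a.comp (ψ.comp (g⁻¹ : V ≃ₗ[F] V).toLinearMap) ∈ Y E M v := by
  obtain ⟨h, hm⟩ := hψ
  have hainj : Function.Injective a := fun e e' he => by
    have h1 : g (e • v) = g (e' • v) := by rw [hga, hga, he]
    exact smul_left_injective E hv (g.injective h1)
  have hk : Kills v (a.comp (ψ.comp (g⁻¹ : V ≃ₗ[F] V).toLinearMap)) := fun e => by
    obtain ⟨e', he'⟩ := (Finite.injective_iff_surjective.1 hainj) e
    have h1 : (g⁻¹ : V ≃ₗ[F] V) (e • v) = e' • v := by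
      rw [← he', ← hga]
      exact g.symm_apply_apply _
    show a (ψ ((g⁻¹ : V ≃ₗ[F] V) (e • v))) = 0
    rw [h1, h, map_zero]
  exact ⟨hk, conj_el hga h hk ▸ M.mul_mem (M.mul_mem hg hm) (M.inv_mem hg)⟩

theorem Setup.norm_one_mem_ID (S : Setup E M) {v : V} (hv : v ≠ 0) {e : E} (he : Algebra.norm F e = 1) :
    Algebra.lmul F E e ∈ ID E M v := by
  intro ψ hψ
  obtain ⟨φ, hφ⟩ := exists_fn_one (E := E) hv
  have he0 : e ≠ 0 := fun h => by
    rw [h, Algebra.norm_zero] at he
    exact zero_ne_one he
  have hunit : IsUnit (1 + φ ((e - 1) • v)) := by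
    rw [map_smul, hφ, smul_eq_mul, mul_one, add_sub_cancel]
    exact isUnit_iff_ne_zero.2 he0
  let d : V ≃ₗ[F] V := (LinearEquiv.dilatransvection hunit).restrictScalars F
  have hd : ∀ x, d x = x + φ x • ((e - 1) • v) := fun x => LinearEquiv.dilatransvection.apply (h := hunit)
  have hdet : LinearEquiv.det d = 1 := Units.ext (by
    rw [det_of_transvection φ _ hd, map_smul, hφ, smul_eq_mul, mul_one, add_sub_cancel, he, Units.val_one])
  have hdM : d ∈ M := S.norm_le d hdet fun c => ⟨c, fun x => by
    rw [hd, hd, map_smul, smul_eq_mul, smul_add, smul_smul c]⟩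
  have hdv : ∀ c : E, d (c • v) = Algebra.lmul F E e c • v := fun c => by
    rw [hd, map_smul, hφ, smul_eq_mul, mul_one, smul_smul, ← add_smul]
    show _ = (e * c) • v
    congr 1
    ring
  have h1 := S.conj_mem hdM hv hdv hψ
  have h2 : ψ.comp (d⁻¹ : V ≃ₗ[F] V).toLinearMap = ψ := LinearMap.ext fun x => by
    show ψ ((d⁻¹ : V ≃ₗ[F] V) x) = ψ x
    obtain ⟨hk, -⟩ := hψ
    conv_rhs => rw [show x = d ((d⁻¹ : V ≃ₗ[F] V) x) from (d.apply_symm_apply x).symm, hd, map_add, smul_smul, hk,
      add_zero]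
  rwa [h2] at h1

theorem Setup.lmul_mem_ID (S : Setup E M) {v : V} (hv : v ≠ 0) (e : E) : Algebra.lmul F E e ∈ ID E M v := by
  classical
  let C : Subring E := (ID E M v).comap (Algebra.lmul F E).toRingHom
  suffices h : C = ⊤ by exact (h ▸ Subring.mem_top e : e ∈ C)
  by_contra hne
  haveI : Fintype F := Fintype.ofFinite F
  haveI : Fintype E := Fintype.ofFinite E
  letI : Field C := (Finite.isField_of_domain C).toField
  set q := Fintype.card F with hq
  set r := finrank F E with hr
  have hq2 : 2 ≤ q := Fintype.one_lt_card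
  have hcardE : Nat.card E = q ^ r := by
    rw [Module.natCard_eq_pow_finrank (K := F), Nat.card_eq_fintype_card]
  have hsq : Nat.card C ^ 2 ≤ Nat.card E := by
    rw [Module.natCard_eq_pow_finrank (K := C) (V := E)]
    refine Nat.pow_le_pow_right Nat.card_pos ?_
    by_contra hlt
    have h1 : Nat.card E ≤ Nat.card C := by
      rw [Module.natCard_eq_pow_finrank (K := C) (V := E)]
      calc _ ≤ Nat.card C ^ 1 := Nat.pow_le_pow_right Nat.card_pos (by omega)
        _ = _ := pow_one _
    have hb : Function.Bijective (Subtype.val : C → E) := (Nat.bijective_iff_injective_and_card _).2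
      ⟨Subtype.val_injective, le_antisymm (Nat.card_le_card_of_injective _ Subtype.val_injective) h1⟩
    exact hne (eq_top_iff.2 fun x _ => by obtain ⟨c, rfl⟩ := hb.2 x; exact c.2)
  -- the powers of order q - 1 lie in C
  let f : Eˣ →* Eˣ := powMonoidHom (q - 1)
  have hrange : Nat.card f.range + 1 ≤ Nat.card C := by
    have hmem : ∀ u ∈ f.range, ((u : Eˣ) : E) ∈ C := by
      rintro _ ⟨u, rfl⟩
      refine S.norm_one_mem_ID hv ?_
      show Algebra.norm F (((u ^ (q - 1) : Eˣ)) : E) = 1
      rw [Units.val_pow_eq_pow_val, map_pow, hq]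
      exact FiniteField.pow_card_sub_one_eq_one _ (Algebra.norm_ne_zero_iff.2 u.ne_zero)
    let j : Option f.range → C := fun o => o.elim 0 fun u => ⟨_, hmem u.1 u.2⟩
    have hj : Function.Injective j := by
      rintro (_ | u) (_ | u') h
      · rfl
      · exact absurd (congrArg Subtype.val h).symm u'.1.ne_zero
      · exact absurd (congrArg Subtype.val h) u.1.ne_zero
      · exact congrArg some (Subtype.ext (Units.ext (congrArg Subtype.val h :)))
    have := Nat.card_le_card_of_injective j hj
    rwa [Finite.card_option] at this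
  have hidx : f.range.index ≤ q - 1 := by
    rw [IsCyclic.index_powMonoidHom_range]
    exact Nat.le_of_dvd (by omega) (Nat.gcd_dvd_right _ _)
  have hunits : Nat.card Eˣ = q ^ r - 1 := by rw [Nat.card_units, hcardE]
  have hmul := f.range.card_mul_index
  rw [hunits] at hmul
  rw [hcardE] at hsq
  set c := Nat.card C
  set R := Nat.card f.range
  have h1 : q ^ r - 1 ≤ (c - 1) * (q - 1) :=
    hmul ▸ Nat.mul_le_mul (by omega) hidx
  have h2 : 1 ≤ c := Nat.card_pos
  have h3 : q ^ 2 ≤ q ^ r := Nat.pow_le_pow_right (by omega) S.prime.two_le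
  obtain ⟨c', hc'⟩ : ∃ c', c = c' + 1 := ⟨c - 1, by omega⟩
  obtain ⟨q', hq'⟩ : ∃ q', q = q' + 1 := ⟨q - 1, by omega⟩
  rw [hc'] at h1 hsq h2
  rw [hq'] at h1 hq2 h3
  rw [hq'] at hsq
  rw [Nat.add_sub_cancel c' 1, Nat.add_sub_cancel q' 1] at h1
  have h4 : (c' + 1) ^ 2 ≤ c' * q' + 1 := by omega
  have h6 : (q' + 1) ^ 2 ≤ c' * q' + 1 := by omega
  rcases Nat.lt_or_ge q' c' with h5 | h5
  · nlinarith
  · nlinarith

/-- composites of maps of `E` with linear functionals give all elations -/
theorem all_of_comp {v : V} (hv : v ≠ 0)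
    (h : ∀ (a : Module.End F E) (φ : V →ₗ[E] E), φ v = 0 → a.comp (φ.restrictScalars F) ∈ Y E M v) : All E M v := by
  classical
  intro ψ hψ
  obtain ⟨φ₀, hφ₀⟩ := exists_fn_one (E := E) hv
  let b := Module.finBasis E (LinearMap.ker φ₀)
  let P : V →ₗ[E] LinearMap.ker φ₀ :=
    (LinearMap.id - φ₀.smulRight v).codRestrict _ fun x => by
      simp [LinearMap.mem_ker, hφ₀]
  have hsum : ψ = ∑ i, (ψ.comp ((LinearMap.id : E →ₗ[F] E).smulRight (b i : V))).comp
      (((b.coord i).comp P).restrictScalars F) := LinearMap.ext fun x => by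
    rw [LinearMap.sum_apply]
    simp only [LinearMap.comp_apply, LinearMap.restrictScalars_apply, LinearMap.smulRight_apply, LinearMap.id_apply,
      Basis.coord_apply]
    rw [← map_sum]
    have h1 : (∑ i, (b.repr (P x) i) • (b i : V)) = x - φ₀ x • v := by
      have := congrArg (fun z : LinearMap.ker φ₀ => (z : V)) (b.sum_repr (P x))
      simp only [AddSubmonoidClass.coe_finset_sum, SetLike.val_smul] at this
      rw [this]
      rfl
    rw [h1, map_sub, hψ, sub_zero]
  rw [hsum]
  refine (Y E M v).sum_mem fun i _ => h _ _ ?_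
  have hP : P v = 0 := Subtype.ext (by show v - φ₀ v • v = 0; rw [hφ₀, one_smul, sub_self])
  rw [LinearMap.comp_apply, hP, map_zero]

/-- if the idealiser is everything, all elations are in `M` -/
theorem Setup.all_of_ID (S : Setup E M) {v : V} (hv : v ≠ 0) (h : ID E M v = ⊤) : All E M v :=
  all_of_comp hv fun a φ hφ => (h ▸ Subring.mem_top a : a ∈ ID E M v) _ (S.mem_of_linear φ hφ)

/-- without all elations, stabilisers act semilinearly on the line -/
theorem Setup.semilinear_on_line (S : Setup E M) {v : V} (hv : v ≠ 0) (hall : ¬ All E M v) {g : V ≃ₗ[F] V}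
    (hg : g ∈ M) {a : E →ₗ[F] E} (hga : ∀ e : E, g (e • v) = a e • v) (ha1 : a 1 = 1) :
    ∀ e f : E, a (e * f) = a e * a f := by
  classical
  have hainj : Function.Injective a := fun e e' he => by
    have h1 : g (e • v) = g (e' • v) := by rw [hga, hga, he]
    exact smul_left_injective E hv (g.injective h1)
  let A : E ≃ₗ[F] E := LinearEquiv.ofBijective a ⟨hainj, Finite.injective_iff_surjective.1 hainj⟩
  have hAs : ∀ e, (g⁻¹ : V ≃ₗ[F] V) (e • v) = A.symm e • v := fun e => by
    conv_lhs => rw [show e = a (A.symm e) from (A.apply_symm_apply e).symm, ← hga]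
    exact g.symm_apply_apply _
  intro e f
  set h : Module.End F E := a.comp ((Algebra.lmul F E e).comp A.symm.toLinearMap) with hh
  have hmem : h ∈ ID E M v := fun ψ hψ => by
    have h1 := S.conj_mem (M.inv_mem hg) hv (a := A.symm.toLinearMap) hAs hψ
    have h2 := S.conj_mem hg hv hga (S.lmul_mem_ID hv e _ h1)
    convert h2 using 1
    refine LinearMap.ext fun x => ?_
    simp only [hh, LinearMap.comp_apply, LinearEquiv.coe_coe, inv_inv]
    congr 4
    exact (g.apply_symm_apply x).symm
  by_contra hne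
  refine hall (S.all_of_ID hv (subring_eq_top S.prime _ (S.lmul_mem_ID hv) hmem ?_))
  by_contra hlin
  push Not at hlin
  apply hne
  have h1 : A.symm 1 = 1 := A.symm_apply_eq.2 ha1.symm
  have h3 := hlin (a f) 1
  rw [mul_one] at h3
  have h4 : h (a f) = a (e * f) := by
    simp only [hh, LinearMap.comp_apply, LinearEquiv.coe_coe]
    rw [show A.symm (a f) = f from A.symm_apply_apply f]
    rfl
  have h5 : h 1 = a e := by
    simp only [hh, LinearMap.comp_apply, LinearEquiv.coe_coe, h1]
    exact congrArg a (mul_one e)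
  rw [h4, h5] at h3
  rw [h3, mul_comm]

end Finite

end CfsgLib.Perm.ExtField
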