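import Cfsg.Agent.Lib.Perm.ExtField.Sylow

/-!
# Coordinatewise field automorphisms
-/

set_option autoImplicit false
set_option linter.all false

namespace CfsgLib.Perm.ExtField

open Module

section Basis

variable {E : Type*} [Field E] {V : Type*} [AddCommGroup V] [Module E V] [FiniteDimensional E V]

theorem exists_basis_pair {v y : V} (hv : v ≠ 0) (hy : y ∉ Submodule.span E {v}) :
    ∃ (b : Basis (Fin (finrank E V)) E V) (i j : Fin (finrank E V)), i ≠ j ∧ b i = v ∧ b j = y := by
  classical
  have hs : LinearIndepOn E id ({v, y} : Set V) := by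
    rw [Set.pair_comm, linearIndepOn_insert (by
      intro h
      rw [Set.mem_singleton_iff] at h
      exact hy (by rw [h]; exact Submodule.mem_span_singleton_self v))]
    exact ⟨LinearIndepOn.singleton hv, by simpa using hy⟩
  let b₀ := Basis.extend hs
  haveI : Fintype (hs.extend (Set.subset_univ ({v, y} : Set V))) := FiniteDimensional.fintypeBasisIndex b₀
  let e := Fintype.equivFinOfCardEq (Module.finrank_eq_card_basis b₀).symm
  have hmem : ({v, y} : Set V) ⊆ hs.extend (Set.subset_univ _) := Basis.subset_extend hs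
  refine ⟨b₀.reindex e, e ⟨v, hmem (Set.mem_insert _ _)⟩,
    e ⟨y, hmem (Set.mem_insert_of_mem _ rfl)⟩, fun h => ?_, ?_, ?_⟩
  · have hvy : v = y := congrArg Subtype.val (e.injective h)
    exact hy (by rw [← hvy]; exact Submodule.mem_span_singleton_self v)
  · rw [Basis.reindex_apply, Equiv.symm_apply_apply, Basis.extend_apply_self]
  · rw [Basis.reindex_apply, Equiv.symm_apply_apply, Basis.extend_apply_self]

end Basis

section Frob

variable {F : Type*} [Field F] {E : Type*} [Field E] [Algebra F E]
variable {V : Type*} [AddCommGroup V] [Module F V] [Module E V] [IsScalarTower F E V]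
variable {ι : Type*} [Fintype ι] (b : Basis ι E V)

/-- apply `σ` to all coordinates -/
noncomputable def coordMap (σ : E ≃ₐ[F] E) : V ≃ₗ[F] V :=
  ((b.equivFun.restrictScalars F).trans (LinearEquiv.piCongrRight fun _ : ι => σ.toLinearEquiv)).trans
    (b.equivFun.restrictScalars F).symm

theorem coord_coordMap (σ : E ≃ₐ[F] E) (x : V) (i : ι) :
    b.equivFun (coordMap b σ x) i = σ (b.equivFun x i) := by
  show b.equivFun (b.equivFun.symm (fun j => σ (b.equivFun x j))) i = _
  rw [LinearEquiv.apply_symm_apply]

theorem coordMap_basis (σ : E ≃ₐ[F] E) (i : ι) : coordMap b σ (b i) = b i := by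
  classical
  refine b.equivFun.injective (funext fun j => ?_)
  rw [coord_coordMap, Basis.equivFun_apply, Basis.repr_self]
  rcases eq_or_ne i j with rfl | h
  · simp
  · simp [Finsupp.single_eq_of_ne' h]

theorem coordMap_smul (σ : E ≃ₐ[F] E) (e : E) (x : V) : coordMap b σ (e • x) = σ e • coordMap b σ x := by
  refine b.equivFun.injective (funext fun j => ?_)
  rw [coord_coordMap, map_smul, map_smul, Pi.smul_apply, Pi.smul_apply, smul_eq_mul, smul_eq_mul, map_mul,
    coord_coordMap]

theorem isNorm_coordMap (σ : E ≃ₐ[F] E) : IsNorm E (coordMap b σ) := fun e => ⟨σ e, coordMap_smul b σ e⟩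

theorem coordMap_mul (σ τ : E ≃ₐ[F] E) : coordMap b σ * coordMap b τ = coordMap b (σ * τ) := by
  refine LinearEquiv.ext fun x => b.equivFun.injective (funext fun j => ?_)
  rw [LinearEquiv.mul_apply, coord_coordMap, coord_coordMap, coord_coordMap, AlgEquiv.mul_apply]

theorem coordMap_one : coordMap b (1 : E ≃ₐ[F] E) = 1 := by
  refine LinearEquiv.ext fun x => b.equivFun.injective (funext fun j => ?_)
  rw [coord_coordMap]
  rfl

theorem coordMap_pow (σ : E ≃ₐ[F] E) (n : ℕ) : coordMap b σ ^ n = coordMap b (σ ^ n) := by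
  induction n with
  | zero => rw [pow_zero, pow_zero, coordMap_one]
  | succ n ih => rw [pow_succ, ih, coordMap_mul, pow_succ]

end Frob

section Galois

variable (F : Type*) [Field F] [Finite F] (E : Type*) [Field E] [Algebra F E] [FiniteDimensional F E] [Finite E]

/-- a generator of the Galois group -/
theorem exists_gal_generator : ∃ σ : E ≃ₐ[F] E, σ ^ finrank F E = 1 ∧
    ∀ e : E, σ e = e → e ∈ Set.range (algebraMap F E) := by
  haveI : Fintype F := Fintype.ofFinite F
  refine ⟨FiniteField.frobeniusAlgEquivOfAlgebraic F E, ?_, fun e he => ?_⟩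
  · rw [← FiniteField.orderOf_frobeniusAlgEquivOfAlgebraic, pow_orderOf_eq_one]
  · refine (IsGalois.mem_range_algebraMap_iff_fixed e).2 fun τ => ?_
    obtain ⟨i, rfl⟩ := (FiniteField.bijective_frobeniusAlgEquivOfAlgebraic_pow F E).2 τ
    dsimp only
    rw [AlgEquiv.coe_pow]
    exact Function.IsFixedPt.iterate he _

end Galois

end CfsgLib.Perm.ExtField
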