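import Cfsg.Agent.Lib.Perm.ExtField.Small

/-!
# Overgroups of the semilinear group of an extension field of prime degree
-/

set_option autoImplicit false
set_option linter.all false

namespace CfsgLib.Perm.ExtField

open Module

variable {F : Type*} [Field F] [Finite F] {E : Type*} [Field E] [Algebra F E] [FiniteDimensional F E] [Finite E]
variable {V : Type*} [AddCommGroup V] [Module F V] [Module E V] [IsScalarTower F E V]
variable [FiniteDimensional E V] [FiniteDimensional F V] [Finite V]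
variable {M : Subgroup (V ≃ₗ[F] V)}

theorem Setup.all_transport (S : Setup E M) {v w : V} (hv : v ≠ 0) (hw : w ≠ 0) (hall : All E M v) : All E M w := by
  intro ψ hψ
  obtain ⟨g, hd, hn, hgv, hlin⟩ := exists_move (F := F) S.two_le hv hw
  have hk : Kills v (ψ.comp g.toLinearMap) := fun e => by
    show ψ (g (e • v)) = 0
    rw [hlin, hgv, hψ]
  obtain ⟨h, hm⟩ := hall _ hk
  have hgM : g ∈ M := S.norm_le g hd hn
  have hga : ∀ e : E, g (e • v) = (LinearMap.id : E →ₗ[F] E) e • w := fun e => by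
    rw [hlin, hgv]
    rfl
  have hk' : Kills w ((LinearMap.id : E →ₗ[F] E).comp ((ψ.comp g.toLinearMap).comp
      (g⁻¹ : V ≃ₗ[F] V).toLinearMap)) := fun e => by
    show ψ (g (g.symm (e • w))) = 0
    rw [LinearEquiv.apply_symm_apply, hψ]
  have h1 := conj_el hga h hk'
  have h2 : ψ = (LinearMap.id : E →ₗ[F] E).comp ((ψ.comp g.toLinearMap).comp (g⁻¹ : V ≃ₗ[F] V).toLinearMap) :=
    LinearMap.ext fun x => (congrArg ψ (g.apply_symm_apply x)).symm
  exact ⟨hψ, el_congr hψ hk' h2 ▸ h1 ▸ M.mul_mem (M.mul_mem hgM hm) (M.inv_mem hgM)⟩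

/-- all elations give all transvections -/
theorem Setup.transvection_mem (S : Setup E M) {v : V} (hv : v ≠ 0) (hall : All E M v)
    {u : V} {ψ : V →ₗ[F] F} (h : ψ u = 0) : LinearEquiv.transvection h ∈ M := by
  classical
  have key : ∀ (u : V) (φ : V →ₗ[F] F) (hu : φ u = 0), (∀ e : E, φ (e • u) = 0) →
      LinearEquiv.transvection hu ∈ M := by
    intro u φ hu hkill
    rcases eq_or_ne u 0 with rfl | hu0
    · have : LinearEquiv.transvection hu = 1 := LinearEquiv.ext fun x => by
        simp [LinearEquiv.transvection.apply]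
      rw [this]
      exact M.one_mem
    have hk : Kills u ((Algebra.linearMap F E).comp φ) := fun e => by
      rw [LinearMap.comp_apply, hkill, map_zero]
    have h1 := el_mem_of_Y (S.all_transport hv hu0 hall _ hk) hk
    have h2 : LinearEquiv.transvection hu = el u ((Algebra.linearMap F E).comp φ) hk :=
      LinearEquiv.ext fun x => by
        rw [LinearEquiv.transvection.apply, el_apply, LinearMap.comp_apply, Algebra.linearMap_apply,
          algebraMap_smul]
    rw [h2]
    exact h1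
  by_cases hu : ∀ e : E, ψ (e • u) = 0
  · exact key u ψ h hu
  have hu0 : u ≠ 0 := fun h0 => hu fun e => by rw [h0, smul_zero, map_zero]
  -- the largest subspace killed
  let Λ : V →ₗ[F] (E →ₗ[F] F) :=
    LinearMap.mk₂ F (fun w e => ψ (e • w)) (fun a b e => by simp [smul_add])
      (fun c a e => by rw [← map_smul ψ, smul_comm]) (fun w a b => by simp [add_smul])
      (fun c w e => by rw [← map_smul ψ, smul_assoc])
  let L : Submodule F V := (Submodule.span E {u}).restrictScalars F
  obtain ⟨w, hw, hwL⟩ : ∃ w, (∀ e : E, ψ (e • w) = 0) ∧ w ∉ L := by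
    by_contra hcon
    push Not at hcon
    have hle : LinearMap.ker Λ ≤ L := fun w hw => hcon w fun e => LinearMap.congr_fun (LinearMap.mem_ker.1 hw) e
    have hL : finrank F L ≤ finrank F E := by
      have : L ≤ LinearMap.range ((LinearMap.id : E →ₗ[F] E).smulRight u) := fun x hx => by
        obtain ⟨e, he⟩ := Submodule.mem_span_singleton.1 hx
        exact ⟨e, he⟩
      exact (Submodule.finrank_mono this).trans (LinearMap.finrank_range_le _)
    have hV : finrank F V = finrank F E * finrank E V := (finrank_mul_finrank F E V).symm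
    have hrange : finrank F (LinearMap.range Λ) ≤ finrank F E := by
      refine (Submodule.finrank_le _).trans ?_
      rw [Module.finrank_linearMap_self]
    have hsum := Λ.finrank_range_add_finrank_ker
    have hge : finrank F E * 2 ≤ finrank F V := hV ▸ Nat.mul_le_mul_left _ S.two_le
    have heq : LinearMap.ker Λ = L := Submodule.eq_of_le_of_finrank_le hle (by omega)
    refine hu fun e => ?_
    have : u ∈ LinearMap.ker Λ := heq ▸ (Submodule.mem_span_singleton_self u : u ∈ Submodule.span E {u})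
    exact LinearMap.congr_fun (LinearMap.mem_ker.1 this) e
  obtain ⟨φ, hφw, hφL⟩ := exists_fn (E := F) hwL
  have hφu : φ u = 0 := hφL u (Submodule.mem_span_singleton_self u : u ∈ Submodule.span E {u})
  have hφE : ∀ e : E, φ (e • u) = 0 := fun e =>
    hφL _ (Submodule.mem_span_singleton.2 ⟨e, rfl⟩ : e • u ∈ Submodule.span E {u})
  have hψw : ψ w = 0 := by simpa using hw 1
  have hA := key u φ hφu hφE
  have hB := key w ψ hψw hw
  have hC : LinearEquiv.transvection h = LinearEquiv.transvection hφu * LinearEquiv.transvection hψw *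
      (LinearEquiv.transvection hφu)⁻¹ * (LinearEquiv.transvection hψw)⁻¹ := by
    rw [eq_mul_inv_iff_mul_eq, eq_mul_inv_iff_mul_eq]
    refine LinearEquiv.ext fun x => ?_
    simp only [LinearEquiv.mul_apply, LinearEquiv.transvection.apply, map_add, map_smul, h, hψw, hφu, hφw,
      smul_eq_mul, mul_zero, mul_one, add_zero, add_smul, smul_add, zero_smul, one_smul, zero_add]
    abel
  rw [hC]
  exact M.mul_mem (M.mul_mem (M.mul_mem hA hB) (M.inv_mem hA)) (M.inv_mem hB)

theorem card_eqLocus_four {E' : Type*} [Field E'] [Finite E'] [Module E' V] (hE : Nat.card E' = 4) (s : V ≃ₗ[F] V)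
    (hs : ∀ (e : E') (x : V), s (e • x) = e • s x) : ∃ n, Nat.card {x : V // s x = x} = 4 ^ n := by
  let K : Submodule E' V :=
    { carrier := {x | s x = x}
      add_mem' := fun {a b} (ha : s a = a) (hb : s b = b) => show s (a + b) = a + b by rw [map_add, ha, hb]
      zero_mem' := map_zero s
      smul_mem' := fun c x (hx : s x = x) => show s (c • x) = c • x by rw [hs, hx] }
  exact ⟨finrank E' K, by rw [← hE, ← Module.natCard_eq_pow_finrank (K := E') (V := K)]; rfl⟩

theorem card_fixed_conj {s t k : V ≃ₗ[F] V} (h : s = k * t * k⁻¹) :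
    Nat.card {x : V // t x = x} = Nat.card {x : V // s x = x} := by
  refine Nat.card_congr (k.toEquiv.subtypeEquiv fun x => ?_)
  rw [h]
  show t x = x ↔ k (t (k.symm (k x))) = k x
  rw [LinearEquiv.symm_apply_apply]
  exact k.injective.eq_iff.symm

theorem le_two_of_pow_dvd {p a f r : ℕ} (hp : p.Prime) (hr : r.Prime) (hf : 1 ≤ f)
    (h : p ^ (f + a) ∣ r * p ^ a) : f = 1 ∧ r = p := by
  rw [pow_add] at h
  have h1 : p ^ f ∣ r := Nat.dvd_of_mul_dvd_mul_right (pow_pos hp.pos a) h
  rcases (Nat.dvd_prime hr).1 h1 with h2 | h2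
  · exact absurd h2 (Nat.one_lt_pow (by omega) hp.one_lt).ne'
  · have hf1 : f = 1 := by
      by_contra hne
      exact Nat.Prime.not_prime_pow (x := p) (n := f) (by omega) (h2 ▸ hr)
    exact ⟨hf1, by rw [← h2, hf1, pow_one]⟩

/-- an overgroup of the semilinear group normalises the field or contains every transvection -/
theorem Setup.main (S : Setup E M) : (∀ g ∈ M, IsNorm E g) ∨
    ∀ (u : V) (ψ : V →ₗ[F] F) (h : ψ u = 0), LinearEquiv.transvection h ∈ M := by
  classical
  rw [or_iff_not_imp_left]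
  intro hnot
  push Not at hnot
  obtain ⟨g, hgM, hg⟩ := hnot
  obtain ⟨v, e, hve⟩ : ∃ v e, g (e • v) ∉ Submodule.span E {g v} := by
    by_contra hcon
    push Not at hcon
    exact hg (isNorm_of_lines S.two_le hcon)
  have hv : v ≠ 0 := fun h0 => hve (by rw [h0, smul_zero, map_zero]; exact Submodule.zero_mem _)
  have hgv : g v ≠ 0 := fun h0 => hv (g.map_eq_zero_iff.1 h0)
  obtain ⟨h, hhd, hhn, hhv, hhlin⟩ := exists_move (F := F) S.two_le hgv hv
  set g' := h * g with hg'
  have hg'M : g' ∈ M := M.mul_mem (S.norm_le h hhd hhn) hgM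
  have hg'v : g' v = v := by rw [hg', LinearEquiv.mul_apply, hhv]
  have hg'e : g' (e • v) ∉ Submodule.span E {v} := by
    intro hmem
    obtain ⟨c, hc⟩ := Submodule.mem_span_singleton.1 hmem
    refine hve (Submodule.mem_span_singleton.2 ⟨c, h.injective ?_⟩)
    rw [hhlin, hhv, hc]
    rfl
  by_cases hall : All E M v
  · exact fun u ψ hψ => S.transvection_mem hv hall hψ
  exfalso
  clear_value g'
  clear hg' hhlin hhv hhn hhd h hve hg hgv hgM g
  -- the orbit
  haveI : Fintype F := Fintype.ofFinite F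
  haveI : Fintype E := Fintype.ofFinite E
  obtain ⟨⟨p, f⟩, hpp, hcard⟩ : ∃ pf : ℕ × ℕ, pf.1.Prime ∧ Fintype.card F = pf.1 ^ pf.2 := by
    obtain ⟨q, hq⟩ := CharP.exists F
    obtain ⟨n, hn1, hn2⟩ := FiniteField.card F q
    exact ⟨(q, n), hn1, hn2⟩
  dsimp only at hpp hcard
  haveI : Fact p.Prime := ⟨hpp⟩
  haveI : CharP F p := charP_of_card_eq_prime_pow hcard
  have hf : 1 ≤ f := by
    rcases f with _ | f
    · have := Fintype.one_lt_card (α := F)
      rw [hcard, pow_zero] at this
      omega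
    · omega
  obtain ⟨P₀, hle, hP₀p, hfix, hmax, hbound⟩ := S.sylow_data (p := p) hv hall
  set u : V := e • v with hu
  set Mv := M ⊓ vecStab v with hMv
  have hg'Mv : g' ∈ Mv := ⟨hg'M, hg'v⟩
  set O := MulAction.orbit ↥Mv u with hO
  set St := MulAction.stabilizer ↥Mv u with hSt
  have hOdef : ∀ x, x ∈ O ↔ ∃ k : Mv, (k : V ≃ₗ[F] V) u = x := fun x => Iff.rfl
  have hy : g' u ∈ O := ⟨⟨g', hg'Mv⟩, rfl⟩
  set y := g' u with hydef
  clear_value y
  -- translations
  have htrans : ∀ (c : F), y + c • v ∈ O := by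
    intro c
    obtain ⟨φ, h1, h2⟩ := exists_fn_line hg'e
    have hel : el v ((algebraMap F E c • φ).restrictScalars F)
        (kills_of_linear _ (by rw [LinearMap.smul_apply, h2, smul_zero])) ∈ Mv :=
      ⟨el_mem_of_Y (S.mem_of_linear _ (by rw [LinearMap.smul_apply, h2, smul_zero])) _, by
        show el v _ _ v = v
        simp [h2]⟩
    obtain ⟨k, hk⟩ := (hOdef y).1 hy
    refine (hOdef _).2 ⟨⟨_, hel⟩ * k, ?_⟩
    rw [Subgroup.coe_mul, LinearEquiv.mul_apply, hk, el_apply, LinearMap.restrictScalars_apply,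
      LinearMap.smul_apply, h1, smul_eq_mul, mul_one, algebraMap_smul]
  have htrans' : ∀ x ∈ O, ∀ c : F, x + c • v ∈ O := by
    intro x hx c
    obtain ⟨k, hk⟩ := (hOdef x).1 hx
    obtain ⟨k', hk'⟩ := (hOdef _).1 (htrans c)
    refine (hOdef _).2 ⟨k * ⟨g', hg'Mv⟩⁻¹ * k', ?_⟩
    rw [Subgroup.coe_mul, Subgroup.coe_mul, LinearEquiv.mul_apply, LinearEquiv.mul_apply, hk', Subgroup.coe_inv]
    show (k : V ≃ₗ[F] V) (g'.symm (y + c • v)) = x + c • v
    have e1 : g'.symm (y + c • v) = u + c • v := by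
      rw [LinearEquiv.symm_apply_eq, map_add g', map_smul g' c v, hg'v, hydef]
    have hkv : (k : V ≃ₗ[F] V) v = v := k.2.2
    rw [e1, map_add (k : V ≃ₗ[F] V), hk, map_smul (k : V ≃ₗ[F] V) c v, hkv]
  let T : AddSubgroup V := (LinearMap.range ((LinearMap.id : F →ₗ[F] F).smulRight v)).toAddSubgroup
  have hTcard : Nat.card T = Fintype.card F := by
    rw [← Nat.card_eq_fintype_card]
    exact Nat.card_congr (LinearEquiv.ofInjective ((LinearMap.id : F →ₗ[F] F).smulRight v)
      fun a b hab => smul_left_injective F hv hab).toEquiv.symm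
  have hqO : Fintype.card F ∣ Nat.card O := by
    have hpre : (QuotientAddGroup.mk (s := T)) ⁻¹' ((QuotientAddGroup.mk (s := T)) '' O) = O := by
      refine Set.Subset.antisymm ?_ (Set.subset_preimage_image _ _)
      rintro x ⟨o, ho, hox⟩
      obtain ⟨c, hc⟩ := QuotientAddGroup.eq.1 hox
      have hc' : c • v = -o + x := hc
      rw [show x = o + c • v by rw [hc', add_neg_cancel_left]]
      exact htrans' o ho c
    have h2 : Nat.card O = Nat.card T * Nat.card ((QuotientAddGroup.mk (s := T)) '' O) := by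
      rw [← Nat.card_prod]
      conv_lhs => rw [← hpre]
      exact Nat.card_congr (QuotientAddGroup.preimageMkEquivAddSubgroupProdSet T _)
    exact hTcard ▸ Dvd.intro _ h2.symm
  have horb : Nat.card O * Nat.card St = Nat.card Mv := by
    haveI : Fintype Mv := Fintype.ofFinite _
    haveI : Fintype O := Fintype.ofFinite _
    haveI : Fintype St := Fintype.ofFinite _
    rw [Nat.card_eq_fintype_card, Nat.card_eq_fintype_card, Nat.card_eq_fintype_card]
    exact MulAction.card_orbit_mul_card_stabilizer_eq_card_group ↥Mv u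
  -- `P₀` fixes `u`
  have hP₀Mv : P₀ ≤ Mv := hle.trans (inf_le_inf_left _ (lineFix_le_vecStab v))
  set StG : Subgroup (V ≃ₗ[F] V) := St.map Mv.subtype with hStG
  have hStcard : Nat.card StG = Nat.card St :=
    (Nat.card_congr (Subgroup.equivMapOfInjective St _ Mv.subtype_injective).toEquiv).symm
  have hP₀St : P₀ ≤ StG := fun s hs => ⟨⟨s, hP₀Mv hs⟩, (hle hs).2 e, rfl⟩
  obtain ⟨a, ha⟩ := hP₀p.exists_card_eq
  have hdiv : Fintype.card F * Nat.card StG ∣ Nat.card Mv := horb ▸ hStcard ▸ mul_dvd_mul_right hqO _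
  obtain ⟨hf1, hrp⟩ : f = 1 ∧ finrank F E = p := by
    refine le_two_of_pow_dvd (a := a) hpp S.prime hf ?_
    refine ha ▸ hbound (f + a) ?_
    rw [pow_add, ← hcard, ← ha]
    exact (mul_dvd_mul_left _ (Subgroup.card_dvd_of_le hP₀St)).trans hdiv
  rw [hf1, pow_one] at hcard
  -- `P₀` is a Sylow subgroup of the stabiliser
  have hidx : ¬ p ∣ (P₀.subgroupOf StG).index := by
    intro hd
    have h1 : p ^ (a + 1) ∣ Nat.card StG := by
      rw [← (P₀.subgroupOf StG).card_mul_index, pow_succ,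
        Nat.card_congr (Subgroup.subgroupOfEquivOfLe hP₀St).toEquiv, ha]
      exact mul_dvd_mul_left _ hd
    have h3 : p ^ (a + 2) ∣ Nat.card Mv := by
      rw [pow_succ']
      exact (mul_dvd_mul_left p h1).trans (hcard ▸ hdiv)
    have h2 := hbound (a + 2) h3
    rw [ha] at h2
    rw [hrp, ← pow_succ'] at h2
    exact absurd ((Nat.pow_dvd_pow_iff_le_right hpp.one_lt).1 h2) (by omega)
  let SP : Sylow p StG := (hP₀p.comap_of_injective StG.subtype StG.subtype_injective).toSylow hidx
  have hSP : (SP : Subgroup StG) = P₀.subgroupOf StG := rfl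
  -- an element moving a group fixing `v` and `y` into `P₀`
  have hconj : ∀ R : Subgroup (V ≃ₗ[F] V), R ≤ M → (∀ s ∈ R, s v = v ∧ s y = y) → IsPGroup p R →
      ∃ k ∈ M, ∀ s ∈ R, k * s * k⁻¹ ∈ P₀ := by
    intro R hRM hRfix hR
    set R' := R.map (MulAut.conj g'⁻¹).toMonoidHom with hR'
    have hR'le : R' ≤ StG := by
      rintro _ ⟨s, hs, rfl⟩
      have hmem : g'⁻¹ * s * g'⁻¹⁻¹ ∈ Mv := Mv.mul_mem (Mv.mul_mem (Mv.inv_mem hg'Mv) ⟨hRM hs, (hRfix s hs).1⟩)
        (Mv.inv_mem (Mv.inv_mem hg'Mv))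
      refine ⟨⟨_, hmem⟩, ?_, rfl⟩
      show g'.symm (s ((g'⁻¹)⁻¹ u)) = u
      rw [inv_inv, ← hydef, (hRfix s hs).2, hydef, LinearEquiv.symm_apply_apply]
    obtain ⟨Q, hQ⟩ := ((hR.map (MulAut.conj g'⁻¹).toMonoidHom).comap_of_injective StG.subtype
      StG.subtype_injective).exists_le_sylow
    obtain ⟨c, hc⟩ := MulAction.exists_smul_eq StG Q SP
    refine ⟨(c : V ≃ₗ[F] V) * g'⁻¹, M.mul_mem ?_ (M.inv_mem hg'M), fun s hs => ?_⟩
    · obtain ⟨x, hx, hxe⟩ := c.2
      rw [← hxe]
      exact x.2.1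
    · have hsR' : g'⁻¹ * s * g'⁻¹⁻¹ ∈ R' := ⟨s, hs, rfl⟩
      have h1 : (⟨_, hR'le hsR'⟩ : StG) ∈ (Q : Subgroup StG) := hQ hsR'
      have h2 : c * (⟨_, hR'le hsR'⟩ : StG) * c⁻¹ ∈ (SP : Subgroup StG) := by
        rw [← hc, Sylow.coe_subgroup_smul]
        exact Subgroup.smul_mem_pointwise_smul _ _ _ h1
      rw [hSP, Subgroup.mem_subgroupOf] at h2
      simpa [mul_assoc, mul_inv_rev] using h2
  -- a semilinear element fixing `v` and `y`
  obtain ⟨b, i₀, i₁, hne, hb0, hb1⟩ := exists_basis_pair hv hg'e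
  have hy0 : y ∉ Submodule.span E {v} := hg'e
  obtain ⟨σ, hσr, hσfix⟩ := exists_gal_generator F E
  set τ := coordMap b σ with hτ
  have hτp : τ ^ p = 1 := by rw [hτ, coordMap_pow, ← hrp, hσr, coordMap_one]
  have hτv : τ v = v := hb0 ▸ coordMap_basis b σ i₀
  have hτy : τ y = y := hb1 ▸ coordMap_basis b σ i₁
  have hτM : τ ∈ M := S.norm_le τ (det_eq_one_of_pow (k := 1) (by rw [pow_one]; exact hτp)) (isNorm_coordMap b σ)
  let W : Subgroup (V ≃ₗ[F] V) :=
    { carrier := {s | s ∈ elGroup E M v ∧ s y = y ∧ ∀ (c : E) x, s (c • x) = c • s x}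
      mul_mem' := fun {s t} hs ht => ⟨(elGroup E M v).mul_mem hs.1 ht.1,
        by rw [LinearEquiv.mul_apply, ht.2.1, hs.2.1],
        fun c x => by rw [LinearEquiv.mul_apply, LinearEquiv.mul_apply, ht.2.2, hs.2.2]⟩
      one_mem' := ⟨(elGroup E M v).one_mem, rfl, fun c x => rfl⟩
      inv_mem' := fun {s} hs => ⟨(elGroup E M v).inv_mem hs.1, s.symm_apply_eq.2 hs.2.1.symm,
        fun c x => s.symm_apply_eq.2 (by rw [hs.2.2]; congr 1; exact (s.apply_symm_apply x).symm)⟩ }
  have hWp : IsPGroup p W := by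
    rintro ⟨s, ⟨ψ, hψ, hm, rfl⟩, -⟩
    refine ⟨1, Subtype.ext ?_⟩
    obtain ⟨h', hp'⟩ := el_pow v hψ p
    rw [pow_one, SubgroupClass.coe_pow, hp', OneMemClass.coe_one, ← el_zero (F := F) (E := E) v]
    refine el_congr _ _ ?_
    rw [← Nat.cast_smul_eq_nsmul F, CharP.cast_eq_zero, zero_smul]
  have hτW : ∀ (t : V ≃ₗ[F] V) (α : E ≃ₐ[F] E), t = coordMap b α → t ∈ M → ∀ s ∈ W, t * s * t⁻¹ ∈ W := by
    rintro t α ht htM s ⟨⟨ψ, hψ, hm, rfl⟩, hsy, hsl⟩
    have htv : ∀ c : E, t (c • v) = (α.toLinearMap : E →ₗ[F] E) c • v := fun c => by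
      subst ht
      rw [coordMap_smul, ← hb0, coordMap_basis]
      rfl
    obtain ⟨hk, hkm⟩ := S.conj_mem htM hv htv (ψ := ψ) ⟨hψ, hm⟩
    refine ⟨⟨_, hk, hkm, conj_el htv hψ hk⟩, ?_, ?_⟩
    · have hty : t y = y := by subst ht; rw [← hb1, coordMap_basis]
      rw [LinearEquiv.mul_apply, LinearEquiv.mul_apply, show (t⁻¹ : V ≃ₗ[F] V) y = y from
        t.symm_apply_eq.2 hty.symm, hsy, hty]
    · intro c x
      obtain ⟨c', rfl⟩ := α.surjective c
      have hti : (t⁻¹ : V ≃ₗ[F] V) (α c' • x) = c' • (t⁻¹ : V ≃ₗ[F] V) x := by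
        refine t.symm_apply_eq.2 ?_
        subst ht
        rw [coordMap_smul]
        congr 1
        exact ((coordMap b α).apply_symm_apply x).symm
      rw [LinearEquiv.mul_apply, LinearEquiv.mul_apply, hti, hsl, LinearEquiv.mul_apply, LinearEquiv.mul_apply]
      subst ht
      rw [coordMap_smul]
  have hτpgroup : IsPGroup p (Subgroup.zpowers τ) := by
    have hd : Nat.card (Subgroup.zpowers τ) ∣ p := by
      rw [Nat.card_zpowers]
      exact orderOf_dvd_of_pow_eq_one hτp
    rcases (Nat.dvd_prime hpp).1 hd with h1 | h1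
    · exact IsPGroup.of_card (n := 0) (by rw [h1, pow_zero])
    · exact IsPGroup.of_card (n := 1) (by rw [h1, pow_one])
  have hnorm : Subgroup.zpowers τ ≤ Subgroup.normalizer (W : Set (V ≃ₗ[F] V)) := by
    rw [Subgroup.zpowers_le, Subgroup.mem_normalizer_iff]
    intro s
    refine ⟨hτW τ σ rfl hτM s, fun hs => ?_⟩
    have hinv : τ⁻¹ = coordMap b σ⁻¹ := by
      refine inv_eq_of_mul_eq_one_right ?_
      rw [hτ, coordMap_mul, mul_inv_cancel, coordMap_one]
    simpa [mul_assoc] using hτW τ⁻¹ σ⁻¹ hinv (M.inv_mem hτM) _ hs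
  set R : Subgroup (V ≃ₗ[F] V) := Subgroup.zpowers τ ⊔ W with hR
  have hRp : IsPGroup p R := hτpgroup.to_sup_of_normal_right' hWp hnorm
  have hRM : R ≤ M ⊓ vecStab v ⊓ vecStab y := by
    refine sup_le ?_ ?_
    · rw [Subgroup.zpowers_le]
      exact ⟨⟨hτM, hτv⟩, hτy⟩
    · rintro s ⟨⟨ψ, hψ, hm, rfl⟩, hsy, -⟩
      exact ⟨⟨hm, show el v ψ hψ v = v by simp [hψ.self]⟩, hsy⟩
  obtain ⟨k, hkM, hk⟩ := hconj R (fun s hs => (hRM hs).1.1) (fun s hs => ⟨(hRM hs).1.2, (hRM hs).2⟩) hRp
  -- fixed points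
  have hfixR : ∀ x, (∀ s ∈ R, s x = x) → ∃ c d : F, x = c • v + d • y := by
    intro x hx
    have h1 : ∀ i, i ≠ i₀ → i ≠ i₁ → b.equivFun x i = 0 := by
      intro i hi0 hi1
      by_contra hxi
      have hcv : b.coord i v = 0 := by rw [← hb0, Basis.coord_apply, Basis.repr_self, Finsupp.single_eq_of_ne' hi0.symm]
      have hcy : b.coord i y = 0 := by rw [← hb1, Basis.coord_apply, Basis.repr_self, Finsupp.single_eq_of_ne' hi1.symm]
      have hsW : el v ((b.coord i).restrictScalars F) (kills_of_linear _ hcv) ∈ W :=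
        ⟨⟨_, kills_of_linear _ hcv, el_mem_of_Y (S.mem_of_linear _ hcv) _, rfl⟩,
          by simp [hcy], fun c z => by simp [smul_add, smul_smul]⟩
      have := hx _ (Subgroup.mem_sup_right hsW)
      rw [el_apply, LinearMap.restrictScalars_apply, add_eq_left, smul_eq_zero] at this
      exact hxi (this.resolve_right hv)
    have h2 : ∀ i, b.equivFun x i ∈ Set.range (algebraMap F E) := fun i => hσfix _ (by
      rw [← coord_coordMap b σ x i, ← hτ, hx τ (Subgroup.mem_sup_left (Subgroup.mem_zpowers τ))])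
    obtain ⟨c, hc⟩ := h2 i₀
    obtain ⟨d, hd⟩ := h2 i₁
    refine ⟨c, d, ?_⟩
    conv_lhs => rw [← b.sum_equivFun x]
    rw [Finset.sum_eq_add i₀ i₁ hne (fun i _ hi => by rw [h1 i hi.1 hi.2, zero_smul])
      (fun hh => absurd (Finset.mem_univ _) hh) (fun hh => absurd (Finset.mem_univ _) hh),
      ← hc, ← hd, hb0, hb1, algebraMap_smul, algebraMap_smul]
  have hbig : Nat.card E ≤ Nat.card F * Nat.card F := by
    rw [← Nat.card_prod]
    have hmap : ∀ c : E, ∃ q : F × F, k.symm (c • v) = q.1 • v + q.2 • y := by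
      intro c
      obtain ⟨c₁, d₁, hcd⟩ := hfixR (k.symm (c • v)) fun s hs => by
        have := (hle (hk s hs)).2 c
        exact k.injective (by rw [LinearEquiv.apply_symm_apply]; exact this)
      exact ⟨(c₁, d₁), hcd⟩
    choose q hq using hmap
    refine Nat.card_le_card_of_injective q fun c c' h => smul_left_injective E hv (k.symm.injective ?_)
    rw [hq, hq, h]
  have hp2 : p = 2 := by
    rw [Module.natCard_eq_pow_finrank (K := F), Nat.card_eq_fintype_card, hcard, hrp] at hbig
    by_contra hne2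
    have : p ^ 3 ≤ p ^ p := Nat.pow_le_pow_right hpp.pos (by have := hpp.two_le; omega)
    nlinarith [hpp.two_le]
  -- the field with two elements
  subst hp2
  have hF2 : Nat.card F = 2 := by rw [Nat.card_eq_fintype_card, hcard]
  obtain ⟨w, hw2, hw0, hw1, hfour, hchar⟩ := exists_omega (F := F) (E := E) hF2 hrp
  have hσw : ∀ c : E, σ c = c * c := by
    have hσne : σ w ≠ w := fun h => by
      obtain ⟨c, hc⟩ := hσfix w h
      rcases scalar_eq hF2 c with rfl | rfl
      · exact hw0 (by rw [← hc, map_zero])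
      · exact hw1 (by rw [← hc, map_one])
    have hσw' : σ w = w + 1 := by
      rcases hfour (σ w) with h | h | h | h
      · exact absurd ((map_eq_zero σ).1 h) hw0
      · exact absurd (σ.injective (h.trans (map_one σ).symm)) hw1
      · exact absurd h hσne
      · exact h
    intro c
    rcases hfour c with h | h | h | h <;> rw [h]
    · simp
    · simp
    · rw [hσw', hw2]
    · rw [map_add, hσw', map_one]
      linear_combination -hw2 - hchar w
  have hτk := hk τ (Subgroup.mem_sup_left (Subgroup.mem_zpowers τ))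
  by_cases hm2 : finrank E V = 2
  · refine S.small_false hF2 hrp hm2 hv hy0 hall P₀ hle hP₀p hkM hτv hτy ?_ hτk
    intro c x
    rw [hτ, coordMap_smul, hσw]
  -- parity
  have hm3 : 3 ≤ finrank E V := by have := S.two_le; omega
  obtain ⟨i₂, h20, h21⟩ : ∃ i, i ≠ i₀ ∧ i ≠ i₁ := by
    by_contra hcon
    push Not at hcon
    have hsub : (Finset.univ : Finset (Fin (finrank E V))) ⊆ {i₀, i₁} := fun i _ => by
      rcases eq_or_ne i i₀ with rfl | h
      · simp
      · simp [hcon i h]
    have := (Finset.card_le_card hsub).trans Finset.card_le_two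
    rw [Finset.card_univ, Fintype.card_fin] at this
    omega
  have hcv : b.coord i₂ v = 0 := by rw [← hb0, Basis.coord_apply, Basis.repr_self, Finsupp.single_eq_of_ne' h20.symm]
  have hcy : b.coord i₂ y = 0 := by rw [← hb1, Basis.coord_apply, Basis.repr_self, Finsupp.single_eq_of_ne' h21.symm]
  set φu : V →ₗ[E] E := w • b.coord i₂ with hφu
  have hφuv : φu v = 0 := by rw [hφu, LinearMap.smul_apply, hcv, smul_zero]
  set υ := el v (φu.restrictScalars F) (kills_of_linear _ hφuv) with hυ
  have hυW : υ ∈ W := ⟨⟨_, kills_of_linear _ hφuv, el_mem_of_Y (S.mem_of_linear _ hφuv) _, rfl⟩,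
    by simp [hυ, hφu, hcy], fun c z => by simp [hυ, smul_add, smul_smul]⟩
  have hτυk := hk (τ * υ) (R.mul_mem (Subgroup.mem_sup_left (Subgroup.mem_zpowers τ)) (Subgroup.mem_sup_right hυW))
  have hE4 : Nat.card E = 4 := by rw [Module.natCard_eq_pow_finrank (K := F), hF2, hrp]; norm_num
  have hpar : ∀ s, k * s * k⁻¹ ∈ P₀ → ∃ n, Nat.card {x : V // s x = x} = 4 ^ n := by
    intro s hs
    obtain ⟨n, hn⟩ := card_eqLocus_four hE4 _ (S.linear_lineFix hF2 hrp hv hall (hle hs))
    exact ⟨n, (card_fixed_conj rfl).trans hn⟩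
  obtain ⟨n₁, hn₁⟩ := hpar τ hτk
  obtain ⟨n₂, hn₂⟩ := hpar (τ * υ) hτυk
  let Φ : (Fin (finrank E V) → F) → V := fun c => b.equivFun.symm fun i => algebraMap F E (c i)
  have hΦinj : Function.Injective Φ := fun c c' h => funext fun i =>
    (algebraMap F E).injective (congrFun (b.equivFun.symm.injective h) i)
  have hΦc : ∀ c i, b.equivFun (Φ c) i = algebraMap F E (c i) := fun c i => by
    simp only [Φ, LinearEquiv.apply_symm_apply]
  have hfixτ : ∀ x, τ x = x ↔ ∃ c, Φ c = x := by
    intro x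
    constructor
    · intro hx
      have : ∀ i, b.equivFun x i ∈ Set.range (algebraMap F E) := fun i => hσfix _ (by
        rw [← coord_coordMap b σ x i, ← hτ, hx])
      choose c hc using this
      exact ⟨c, b.equivFun.injective (funext fun i => by rw [hΦc, hc])⟩
    · rintro ⟨c, rfl⟩
      refine b.equivFun.injective (funext fun i => ?_)
      rw [hτ, coord_coordMap, hΦc, AlgEquiv.commutes]
  have hυcoord : ∀ x i, b.equivFun (υ x) i = b.equivFun x i + if i = i₀ then w * b.equivFun x i₂ else 0 := by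
    intro x i
    rw [hυ, el_apply, LinearMap.restrictScalars_apply, map_add b.equivFun, Pi.add_apply]
    congr 1
    rw [map_smul b.equivFun, Pi.smul_apply, hφu, LinearMap.smul_apply, Basis.coord_apply, smul_eq_mul, smul_eq_mul,
      ← hb0, Basis.equivFun_apply, Basis.repr_self]
    rcases eq_or_ne i i₀ with rfl | hi
    · simp
    · rw [Finsupp.single_eq_of_ne hi, mul_zero, if_neg hi]
  have hfixτυ : ∀ x, (τ * υ) x = x ↔ ∃ c, c i₂ = 0 ∧ Φ c = x := by
    intro x
    constructor
    · intro hx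
      have hco : ∀ i, σ (b.equivFun (υ x) i) = b.equivFun x i := fun i => by
        rw [← coord_coordMap b σ (υ x) i, ← hτ, ← LinearEquiv.mul_apply, hx]
      have h2 : b.equivFun x i₂ ∈ Set.range (algebraMap F E) := hσfix _ (by
        have := hco i₂
        rwa [hυcoord, if_neg h20, add_zero] at this)
      obtain ⟨c₂, hc₂⟩ := h2
      have h0 := hco i₀
      rw [hυcoord, if_pos rfl, ← hc₂] at h0
      have hc20 : c₂ = 0 := by
        rcases scalar_eq hF2 c₂ with h | h
        · exact h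
        · exfalso
          rw [h, map_one, mul_one, hσw] at h0
          rcases hfour (b.equivFun x i₀) with hz | hz | hz | hz <;> rw [hz] at h0
          · exact hw1 (by linear_combination h0 - hw2 - hchar (1 : E))
          · exact hw1 (by linear_combination h0 - hw2 - hchar w - hchar (1 : E))
          · exact hw0 (by linear_combination -h0 + hchar w * (2 * w) - hchar (w * w) * 0)
          · exact hw0 (by linear_combination -h0 + hchar w * (2 * w + 2) + hchar (1 : E) * 0)
      have hυx : υ x = x := b.equivFun.injective (funext fun i => by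
        rw [hυcoord, ← hc₂, hc20, map_zero, mul_zero, ite_self, add_zero])
      rw [LinearEquiv.mul_apply, hυx, hfixτ] at hx
      obtain ⟨c, rfl⟩ := hx
      refine ⟨c, ?_, rfl⟩
      rw [hΦc, hc20, map_zero] at hc₂
      exact (map_eq_zero (algebraMap F E)).1 hc₂.symm
    · rintro ⟨c, hc, rfl⟩
      have hυx : υ (Φ c) = Φ c := b.equivFun.injective (funext fun i => by
        rw [hυcoord, hΦc, hΦc, hc, map_zero, mul_zero, ite_self, add_zero])
      rw [LinearEquiv.mul_apply, hυx, hfixτ]
      exact ⟨c, rfl⟩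
  have hc1 : Nat.card {x : V // τ x = x} = 2 ^ finrank E V := by
    rw [← Nat.card_congr (Equiv.ofBijective (fun c => (⟨Φ c, (hfixτ _).2 ⟨c, rfl⟩⟩ : {x : V // τ x = x}))
      ⟨fun c c' h => hΦinj (congrArg Subtype.val h), fun x => by
        obtain ⟨c, hc⟩ := (hfixτ _).1 x.2
        exact ⟨c, Subtype.ext hc⟩⟩), Nat.card_fun, Nat.card_fin, hF2]
  have hc2 : Nat.card {x : V // (τ * υ) x = x} = 2 ^ (finrank E V - 1) := by
    have e1 : {c : Fin (finrank E V) → F // c i₂ = 0} ≃ ({i // i ≠ i₂} → F) :=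
      { toFun := fun c i => c.1 i.1
        invFun := fun c => ⟨fun i => if h : i = i₂ then 0 else c ⟨i, h⟩, dif_pos rfl⟩
        left_inv := fun c => Subtype.ext (funext fun i => by
          show (if h : i = i₂ then (0 : F) else c.1 i) = c.1 i
          split_ifs with h
          · rw [h, c.2]
          · rfl)
        right_inv := fun c => funext fun i => dif_neg i.2 }
    rw [← Nat.card_congr (Equiv.ofBijective
      (fun c : {c : Fin (finrank E V) → F // c i₂ = 0} =>
        (⟨Φ c, (hfixτυ _).2 ⟨c, c.2, rfl⟩⟩ : {x : V // (τ * υ) x = x}))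
      ⟨fun c c' h => Subtype.ext (hΦinj (congrArg Subtype.val h)), fun x => by
        obtain ⟨c, hc, hc'⟩ := (hfixτυ _).1 x.2
        exact ⟨⟨c, hc⟩, Subtype.ext hc'⟩⟩), Nat.card_congr e1, Nat.card_fun, hF2, Nat.card_eq_fintype_card,
      Fintype.card_subtype_compl, Fintype.card_fin, Fintype.card_subtype_eq]
  rw [hc1, show (4 : ℕ) = 2 ^ 2 from rfl, ← pow_mul] at hn₁
  rw [hc2, show (4 : ℕ) = 2 ^ 2 from rfl, ← pow_mul] at hn₂
  have := Nat.pow_right_injective le_rfl hn₁
  have := Nat.pow_right_injective le_rfl hn₂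
  omega

end CfsgLib.Perm.ExtField
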