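import Cfsg.Prelude.Def_GeometricClasses
import Cfsg.Agent.Lib.Perm.Asch.Proper
import Cfsg.Agent.Lib.AutPSL.Main
import Cfsg.Agent.Lib.Perm.ExtField.Main

/-!
# The normaliser of a field subalgebra of prime degree is maximal
-/

set_option autoImplicit false
set_option linter.all false

namespace CfsgLib.Perm.ExtField

open Matrix Module Cfsg Cfsg.Geo

variable {F : Type*} [Field F] [Fintype F] {n : ℕ}

/-- matrices as linear equivalences -/
def glEquiv : GL (Fin n) F ≃* ((Fin n → F) ≃ₗ[F] (Fin n → F)) :=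
  Matrix.GeneralLinearGroup.toLin.trans (LinearMap.GeneralLinearGroup.generalLinearEquiv F (Fin n → F))

theorem glEquiv_apply (g : GL (Fin n) F) (x : Fin n → F) :
    glEquiv g x = (g : Matrix (Fin n) (Fin n) F) *ᵥ x := rfl

theorem det_glEquiv (g : GL (Fin n) F) :
    LinearEquiv.det (glEquiv g) = Matrix.GeneralLinearGroup.det g := by
  refine Units.ext ?_
  rw [LinearEquiv.coe_det, Matrix.GeneralLinearGroup.val_det_apply, ← LinearMap.det_toLin']
  rfl

theorem mem_specialLinear_iff (g : GL (Fin n) F) :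
    g ∈ specialLinear (Fin n) F ↔ Matrix.GeneralLinearGroup.det g = 1 := MonoidHom.mem_ker

theorem subgroup_eq_SL_of_transvections {M : Subgroup (GL (Fin n) F)} (hM : M ≤ specialLinear (Fin n) F)
    (hT : ∀ (u φ : Fin n → F) (h : φ ⬝ᵥ u = 0), CfsgLib.Perm.Asch.tv u φ h ∈ M) :
    M = specialLinear (Fin n) F := by
  classical
  refine le_antisymm hM fun g hg => ?_
  set H : Subgroup (Matrix.SpecialLinearGroup (Fin n) F) := M.comap Matrix.SpecialLinearGroup.toGL with hH
  have htr : ∀ (i j : Fin n) (hij : i ≠ j) (c : F), Matrix.SpecialLinearGroup.transvection hij c ∈ H := by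
    intro i j hij c
    have h0 : (Pi.single j c : Fin n → F) ⬝ᵥ (Pi.single i 1) = 0 := by
      rw [dotProduct_single, Pi.single_eq_of_ne hij, zero_mul]
    have := hT (Pi.single i 1) (Pi.single j c) h0
    rw [hH, Subgroup.mem_comap]
    convert this using 1
    refine Units.ext ?_
    show (Matrix.SpecialLinearGroup.transvection hij c : Matrix (Fin n) (Fin n) F) = _
    rw [CfsgLib.Perm.Asch.tv_coe, Matrix.SpecialLinearGroup.transvection_coe]
    congr 1
    ext a b
    rw [Matrix.vecMulVec_apply, Matrix.single_apply, Pi.single_apply, Pi.single_apply]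
    by_cases ha : i = a <;> by_cases hb : j = b <;> simp [ha, hb, Ne.symm, eq_comm]
  have hall : ∀ A : Matrix.SpecialLinearGroup (Fin n) F, A ∈ H := by
    intro A
    rcases Nat.lt_or_ge n 2 with hn | hn
    · have : A = 1 := by
        haveI : Subsingleton (Fin n) := ⟨fun a b => Fin.ext (by omega)⟩
        exact Subsingleton.elim _ _
      rw [this]
      exact H.one_mem
    haveI : Nontrivial (Fin n) := ⟨⟨⟨0, by omega⟩, ⟨1, by omega⟩, by simp [Fin.ext_iff]⟩⟩
    refine Matrix.SpecialLinearGroup.diagonal_transvection_induction' (· ∈ H) A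
      (fun i j hij c hc => ?_) (fun i j hij c => htr i j hij c) fun A B => H.mul_mem
    have hxr : ∀ (i j : Fin n) (hij : i ≠ j) (c : F), CfsgLib.AutPSL.xr hij c ∈ H := fun i j hij c => by
      rw [CfsgLib.AutPSL.xr_eq_transvection]
      exact htr i j hij c
    rw [CfsgLib.AutPSL.diag2n_eq hij c hc]
    repeat' apply H.mul_mem
    all_goals exact hxr _ _ _ _
  have hdet : (g : Matrix (Fin n) (Fin n) F).det = 1 := congrArg Units.val ((mem_specialLinear_iff g).1 hg)
  have h2 : Matrix.SpecialLinearGroup.toGL (⟨_, hdet⟩ : Matrix.SpecialLinearGroup (Fin n) F) ∈ M := hall ⟨_, hdet⟩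
  convert h2 using 1
  exact Units.ext rfl

theorem extField_maximal (r : ℕ) (hr : r.Prime) (hrn : r ∣ n) (hlt : r < n)
    (K : Subalgebra F (Matrix (Fin n) (Fin n) F)) (hK : IsFieldSubalgebra r K) :
    IsCoatom (subalgebraNormalizer K) ∧
      IsMaximalIn (specialLinear (Fin n) F) (subalgebraNormalizer K ⊓ specialLinear (Fin n) F) := by
  classical
  haveI : Nonempty (Fin n) := ⟨⟨0, by omega⟩⟩
  haveI : Nontrivial K := ⟨⟨0, 1, fun h => zero_ne_one (congrArg Subtype.val h :)⟩⟩
  have hfield : IsField K :=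
    { exists_pair_ne := ⟨0, 1, zero_ne_one⟩
      mul_comm := fun a b => Subtype.ext (hK.comm _ a.2 _ b.2)
      mul_inv_cancel := fun {a} ha => by
        obtain ⟨y, hy, h⟩ := hK.inv _ a.2 fun h => ha (Subtype.ext h)
        exact ⟨⟨y, hy⟩, Subtype.ext h⟩ }
  letI : Field K := hfield.toField
  have hsmul : ∀ (k : K) (x : Fin n → F), k • x = (k : Matrix (Fin n) (Fin n) F) *ᵥ x := fun k x => rfl
  haveI : IsScalarTower F K (Fin n → F) := ⟨fun c k x => by
    rw [hsmul, hsmul, Subalgebra.coe_smul, Matrix.smul_mulVec]⟩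
  haveI : FiniteDimensional F K := Module.Finite.of_finite
  haveI : FiniteDimensional K (Fin n → F) := Module.Finite.of_finite
  have hrK : finrank F K = r := hK.finrank_eq
  have htwo : 2 ≤ finrank K (Fin n → F) := by
    have h1 := finrank_mul_finrank F K (Fin n → F)
    rw [hrK, Module.finrank_fintype_fun_eq_card, Fintype.card_fin] at h1
    by_contra hlt2
    interval_cases hm : finrank K (Fin n → F) <;> omega
  -- the normaliser
  have hN : ∀ g : GL (Fin n) F, g ∈ subalgebraNormalizer K ↔ IsNorm K (glEquiv g) := by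
    intro g
    have hfwd : IsNorm K (glEquiv g) → ∀ k : Matrix (Fin n) (Fin n) F, k ∈ K →
        (g : Matrix (Fin n) (Fin n) F) * k * ((g⁻¹ : GL (Fin n) F) : Matrix (Fin n) (Fin n) F) ∈ K := by
      intro h k hk
      obtain ⟨e', he⟩ := h ⟨k, hk⟩
      have hmat : (g : Matrix (Fin n) (Fin n) F) * k = (e' : Matrix (Fin n) (Fin n) F) * g := by
        refine Matrix.ext_iff_mulVec.2 fun x => ?_
        rw [← Matrix.mulVec_mulVec, ← Matrix.mulVec_mulVec, ← hsmul ⟨k, hk⟩, ← hsmul e', ← glEquiv_apply, ← glEquiv_apply]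
        exact he x
      rw [hmat, mul_assoc, Units.mul_inv, mul_one]
      exact e'.2
    refine ⟨fun h e => ⟨⟨(g : Matrix (Fin n) (Fin n) F) * (e : Matrix (Fin n) (Fin n) F) *
      ((g⁻¹ : GL (Fin n) F) : Matrix (Fin n) (Fin n) F), (h (e : Matrix (Fin n) (Fin n) F)).1 e.2⟩, fun x => ?_⟩,
      fun h k => ⟨hfwd h k, fun hk => ?_⟩⟩
    · rw [hsmul, hsmul, glEquiv_apply, glEquiv_apply, Matrix.mulVec_mulVec, Matrix.mulVec_mulVec, mul_assoc (_ * _),
        Units.inv_mul, mul_one]
    · have hinj : Function.Injective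
          (fun k : K => (⟨_, hfwd h (k : Matrix (Fin n) (Fin n) F) k.2⟩ : K)) := fun a b hab => Subtype.ext (by
        have h1 := congrArg Subtype.val hab
        exact (Units.mul_right_inj g).1 ((Units.mul_left_inj g⁻¹).1 h1))
      obtain ⟨k', hk'⟩ := (Finite.injective_iff_surjective.1 hinj) ⟨_, hk⟩
      have h1 := congrArg Subtype.val hk'
      rw [show k = (k' : Matrix (Fin n) (Fin n) F) from
        ((Units.mul_right_inj g).1 ((Units.mul_left_inj g⁻¹).1 h1)).symm]
      exact k'.2
  set N := subalgebraNormalizer K with hNdef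
  set SL := specialLinear (Fin n) F with hSLdef
  -- the maximality in the special linear group
  have hmax : ∀ M : Subgroup (GL (Fin n) F), N ⊓ SL ≤ M → M ≤ SL → M = N ⊓ SL ∨ M = SL := by
    intro M h1 h2
    have S : Setup K (M.map (glEquiv (F := F) (n := n)).toMonoidHom) :=
      { prime := hrK.symm ▸ hr
        two_le := htwo
        le_SL := by
          rintro _ ⟨g, hg, rfl⟩
          show LinearEquiv.det (glEquiv g) = 1
          rw [det_glEquiv]
          exact (mem_specialLinear_iff g).1 (h2 hg)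
        norm_le := fun φ hd hn => by
          refine ⟨glEquiv.symm φ, h1 ⟨(hN _).2 ?_, (mem_specialLinear_iff _).2 ?_⟩, glEquiv.apply_symm_apply φ⟩
          · rw [MulEquiv.apply_symm_apply]; exact hn
          · rw [← det_glEquiv, MulEquiv.apply_symm_apply, hd] }
    rcases S.main with h | h
    · exact Or.inl (le_antisymm (fun g hg => ⟨(hN g).2 (h _ ⟨g, hg, rfl⟩), h2 hg⟩) h1)
    · refine Or.inr (subgroup_eq_SL_of_transvections h2 fun u φ hφ => ?_)
      let ψ : (Fin n → F) →ₗ[F] F :=
        { toFun := fun x => φ ⬝ᵥ x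
          map_add' := fun x y => dotProduct_add φ x y
          map_smul' := fun c x => dotProduct_smul c φ x }
      obtain ⟨g, hg, hge⟩ := h u ψ hφ
      suffices he : CfsgLib.Perm.Asch.tv u φ hφ = g by rw [he]; exact hg
      refine glEquiv.injective ((LinearEquiv.ext fun x => ?_).trans hge.symm)
      rw [glEquiv_apply, CfsgLib.Perm.Asch.tv_mulVec, LinearEquiv.transvection.apply]
      rfl
  -- properness
  have hproper : ¬ SL ≤ N := by
    intro hle
    obtain ⟨w, hw0⟩ : ∃ w : Fin n → F, w ≠ 0 := ⟨Pi.single ⟨0, by omega⟩ 1, by simp [Pi.single_eq_zero_iff]⟩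
    obtain ⟨k, hk⟩ : ∃ k : K, ∀ c : F, k ≠ c • (1 : K) := by
      by_contra hcon
      push Not at hcon
      have h1 : finrank F K ≤ 1 := finrank_le_one (1 : K) fun k => by
        obtain ⟨c, hc⟩ := hcon k
        exact ⟨c, hc.symm⟩
      rw [hrK] at h1
      exact absurd h1 (by have := hr.two_le; omega)
    obtain ⟨y, hy⟩ := exists_notMem_line (E := K) htwo w
    have hmem : k • w ∉ (Submodule.span F {w} : Submodule F (Fin n → F)) := by
      intro hcon
      obtain ⟨c, hc⟩ := Submodule.mem_span_singleton.1 hcon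
      refine hk c (sub_eq_zero.1 ?_)
      have h3 : (k - c • (1 : K)) • w = 0 := by rw [sub_smul, smul_assoc, one_smul, hc, sub_self]
      exact (smul_eq_zero.1 h3).resolve_right hw0
    obtain ⟨φ, hφw, hφ0⟩ := exists_fn (E := F) (W := Submodule.span F {k • w}) (y := w) (by
      intro hcon
      obtain ⟨c, hc⟩ := Submodule.mem_span_singleton.1 hcon
      rcases eq_or_ne c 0 with rfl | hc0
      · exact hw0 (by rw [← hc, zero_smul])
      · exact hmem (Submodule.mem_span_singleton.2 ⟨c⁻¹, by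
          conv_lhs => rw [← hc]
          rw [smul_smul, inv_mul_cancel₀ hc0, one_smul]⟩))
    obtain ⟨φ', hφ'⟩ : ∃ φ' : Fin n → F, ∀ x, φ' ⬝ᵥ x = φ x := ⟨fun i => φ (Pi.single i 1), fun x => by
      conv_rhs => rw [pi_eq_sum_univ' x]
      simp [dotProduct, map_sum, mul_comm]⟩
    -- a transvection moving the line of `w`
    obtain ⟨φy, hφy1, hφy2⟩ := exists_fn (E := K) (W := Submodule.span K {w}) (y := y) hy
    obtain ⟨u, hu, huw⟩ : ∃ u, φ' ⬝ᵥ u = 0 ∧ u ∉ Submodule.span K {w} := by
      refine ⟨y - φ y • w, by rw [hφ', map_sub, map_smul, hφw, smul_eq_mul, mul_one, sub_self], fun hcon => hy ?_⟩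
      have h4 : φ y • w ∈ Submodule.span K {w} :=
        Submodule.smul_of_tower_mem _ _ (Submodule.mem_span_singleton_self w)
      simpa using Submodule.add_mem _ hcon h4
    have hg := hle (CfsgLib.Perm.Asch.tv_mem_SL u φ' hu)
    have hline := ((hN _).1 hg).map_line w k
    rw [glEquiv_apply, glEquiv_apply, CfsgLib.Perm.Asch.tv_mulVec, CfsgLib.Perm.Asch.tv_mulVec, hφ', hφ', hφw,
      hφ0 _ (Submodule.mem_span_singleton_self _), zero_smul, add_zero, one_smul] at hline
    obtain ⟨c, hc⟩ := Submodule.mem_span_singleton.1 hline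
    rcases eq_or_ne c 0 with rfl | hc0
    · rw [zero_smul] at hc
      rcases smul_eq_zero.1 hc.symm with h5 | h5
      · exact hk 0 (by rw [zero_smul]; exact h5)
      · exact hw0 h5
    · refine huw (Submodule.mem_span_singleton.2 ⟨c⁻¹ * k - 1, ?_⟩)
      rw [sub_smul, one_smul, ← smul_smul, ← hc, smul_smul, inv_mul_cancel₀ hc0, one_smul, add_sub_cancel_left]
  have hlt' : N ⊓ SL < SL := lt_of_le_of_ne inf_le_right fun h => hproper (h ▸ inf_le_left)
  have hS : IsMaximalIn SL (N ⊓ SL) := ⟨hlt', hmax⟩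
  refine ⟨⟨fun htop => hproper (htop ▸ le_top), fun M hM => ?_⟩, hS⟩
  have hsurj : ∀ c : Fˣ, ∃ g ∈ N, Matrix.GeneralLinearGroup.det g = c := by
    intro c
    obtain ⟨a, ha⟩ := FiniteField.norm_surjective F K (c : F)
    obtain ⟨w, hw0⟩ : ∃ w : Fin n → F, w ≠ 0 := ⟨Pi.single ⟨0, by omega⟩ 1, by simp [Pi.single_eq_zero_iff]⟩
    obtain ⟨φ, hφ⟩ := exists_fn_one (E := K) hw0
    have hunit : IsUnit (1 + φ ((a - 1) • w)) := by
      rw [map_smul, hφ, smul_eq_mul, mul_one, add_sub_cancel]
      refine isUnit_iff_ne_zero.2 fun h0 => c.ne_zero ?_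
      rw [← ha, h0, Algebra.norm_zero]
    let d : (Fin n → F) ≃ₗ[F] (Fin n → F) := (LinearEquiv.dilatransvection hunit).restrictScalars F
    have hd : ∀ x, d x = x + φ x • ((a - 1) • w) := fun x => LinearEquiv.dilatransvection.apply (h := hunit)
    refine ⟨glEquiv.symm d, (hN _).2 ?_, Units.ext ?_⟩
    · rw [MulEquiv.apply_symm_apply]
      exact fun e => ⟨e, fun x => by rw [hd, hd, map_smul, smul_eq_mul, smul_add, smul_smul e]⟩
    · rw [← det_glEquiv, MulEquiv.apply_symm_apply, det_of_transvection φ _ hd, map_smul, hφ, smul_eq_mul, mul_one,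
        add_sub_cancel, ha]
  rcases hmax (M ⊓ SL) (inf_le_inf_right _ hM.le) inf_le_right with h | h
  · refine absurd (le_antisymm hM.le fun g hg => ?_) hM.ne
    obtain ⟨h0, hh0, hdet⟩ := hsurj (Matrix.GeneralLinearGroup.det g)
    have h1 : h0⁻¹ * g ∈ M ⊓ SL := ⟨M.mul_mem (M.inv_mem (hM.le hh0)) hg, (mem_specialLinear_iff _).2 (by
      rw [map_mul, map_inv, hdet, inv_mul_cancel])⟩
    rw [h] at h1
    simpa using N.mul_mem hh0 h1.1
  · refine eq_top_iff.2 fun g _ => ?_
    obtain ⟨h0, hh0, hdet⟩ := hsurj (Matrix.GeneralLinearGroup.det g)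
    have h1 : h0⁻¹ * g ∈ M := (show SL ≤ M from h ▸ inf_le_left) ((mem_specialLinear_iff _).2 (by
      rw [map_mul, map_inv, hdet, inv_mul_cancel]))
    simpa using M.mul_mem (hM.le hh0) h1

end CfsgLib.Perm.ExtField
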