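import Cfsg.Agent.Lib.Perm.ExtField.Two

/-!
# Dimension four over the field with two elements
-/

set_option autoImplicit false
set_option linter.all false

namespace CfsgLib.Perm.ExtField

open Module

variable {F : Type*} [Field F] [Finite F] {E : Type*} [Field E] [Algebra F E] [FiniteDimensional F E] [Finite E]
variable {V : Type*} [AddCommGroup V] [Module F V] [Module E V] [IsScalarTower F E V]
variable [FiniteDimensional E V] [FiniteDimensional F V] [Finite V]
variable {M : Subgroup (V ≃ₗ[F] V)}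

theorem Setup.small_false (S : Setup E M) (hF : Nat.card F = 2) (hE : finrank F E = 2) (hm : finrank E V = 2)
    {v y : V} (hv : v ≠ 0) (hy : y ∉ Submodule.span E {v}) (hall : ¬ All E M v) (P₀ : Subgroup (V ≃ₗ[F] V))
    (hle : P₀ ≤ M ⊓ lineFix E v) (hp : IsPGroup 2 P₀) {k τ : V ≃ₗ[F] V} (hkM : k ∈ M) (hτv : τ v = v) (hτy : τ y = y)
    (hτw : ∀ e : E, ∀ x : V, τ (e • x) = (e * e) • τ x) (hk : k * τ * k⁻¹ ∈ P₀) : False := by
  classical
  obtain ⟨w, hw2, hw0, hw1, hfour, hchar⟩ := exists_omega (F := F) (E := E) hF hE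
  have h2 : (2 : E) = 0 := by linear_combination hchar (1 : E)
  have hVchar : ∀ x : V, x + x = 0 := fun x => by
    rw [← two_smul E x, h2, zero_smul]
  obtain ⟨b, i₀, i₁, hne, hb0, hb1⟩ := exists_basis_pair hv hy
  have hii : ∀ i, i = i₀ ∨ i = i₁ := by
    intro i
    by_contra hcon
    push Not at hcon
    have := Finset.card_le_univ ({i, i₀, i₁} : Finset _)
    rw [Finset.card_eq_three.2 ⟨i, i₀, i₁, hcon.1, hcon.2, hne, rfl⟩, Fintype.card_fin, hm] at this
    omega
  have hdec : ∀ x : V, ∃ a c : E, x = a • v + c • y := fun x => ⟨b.repr x i₀, b.repr x i₁, by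
    conv_lhs => rw [← b.sum_repr x]
    have : (Finset.univ : Finset (Fin (finrank E V))) = {i₀, i₁} :=
      Finset.ext fun i => by simpa using hii i
    rw [this, Finset.sum_pair hne, hb0, hb1]⟩
  have hindep : ∀ a c : E, a • v + c • y = 0 → a = 0 ∧ c = 0 := by
    intro a c h
    by_cases hc : c = 0
    · subst hc
      rw [zero_smul, add_zero, smul_eq_zero] at h
      exact ⟨h.resolve_right hv, rfl⟩
    · exact absurd (Submodule.mem_span_singleton.2 ⟨-(c⁻¹ * a), by
        rw [neg_smul, ← smul_smul, eq_neg_of_add_eq_zero_left h, smul_neg, neg_neg, smul_smul, inv_mul_cancel₀ hc,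
          one_smul]⟩) hy
  -- every element of `P₀` is an elation
  have hP₀el : ∀ s ∈ P₀, ∃ φ : V →ₗ[E] E, φ v = 0 ∧ ∀ x, s x = x + φ x • v := by
    intro s hs
    obtain ⟨φ₁, h11, h12⟩ := exists_fn_line hy
    have hlin := S.linear_lineFix hF hE hv hall (hle hs)
    obtain ⟨a, c, hac⟩ := hdec (s y)
    have hsv : s v = v := by simpa using (hle hs).2 1
    have hpow : ∀ n : ℕ, ∃ a' : E, (s ^ n) y = a' • v + c ^ n • y := by
      intro n
      induction n with
      | zero => exact ⟨0, by simp⟩
      | succ n ih =>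
        obtain ⟨a', ha'⟩ := ih
        exact ⟨a' + c ^ n * a, by
          rw [pow_succ', LinearEquiv.mul_apply, ha', map_add, hlin, hlin, hsv, hac, smul_add, smul_smul, smul_smul,
            add_smul, pow_succ, add_assoc]⟩
    obtain ⟨j, hj⟩ := hp ⟨s, hs⟩
    have hsj : s ^ (2 ^ j) = 1 := congrArg Subtype.val hj
    obtain ⟨a', ha'⟩ := hpow (2 ^ j)
    rw [hsj, LinearEquiv.coe_one, id] at ha'
    have hc1 : c ^ (2 ^ j) = 1 := by
      have := (hindep a' (c ^ (2 ^ j) - 1) (by rw [sub_smul, one_smul, ← add_sub_assoc, ← ha', sub_self])).2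
      exact sub_eq_zero.1 this
    have hc : c = 1 := by
      haveI : CharP E 2 := (CharP.charP_iff_prime_eq_zero Nat.prime_two).2 (by exact_mod_cast h2)
      haveI : Fact (Nat.Prime 2) := ⟨Nat.prime_two⟩
      exact iterateFrobenius_inj E 2 j (by rw [iterateFrobenius_def, hc1, map_one])
    refine ⟨a • φ₁, by rw [LinearMap.smul_apply, h12, smul_zero], fun x => ?_⟩
    obtain ⟨d, f, rfl⟩ := hdec x
    rw [map_add s, hlin, hlin, hsv, hac, hc, LinearMap.smul_apply, map_add φ₁, map_smul φ₁, map_smul φ₁, h11, h12,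
      smul_eq_mul, smul_eq_mul, smul_eq_mul, one_smul, smul_add, smul_smul]
    rw [show a * (d * 0 + f * 1) = f * a by ring]
    abel
  obtain ⟨φt, hφtv, hφt⟩ := hP₀el _ hk
  obtain ⟨φ₁, hφ₁y, hφ₁v⟩ := exists_fn_line hy
  set c₀ := φt y with hc₀
  have hφt_eq : ∀ x, φt x = c₀ * φ₁ x := fun x => by
    obtain ⟨a, c, rfl⟩ := hdec x
    simp [hφtv, hφ₁v, hφ₁y, ← hc₀, mul_comm]
  -- conjugated elations
  let el' : E → (V ≃ₗ[F] V) := fun c =>
    k⁻¹ * el v ((c • φ₁).restrictScalars F) (kills_of_linear _ (by rw [LinearMap.smul_apply, hφ₁v, smul_zero])) * k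
  have hel'M : ∀ c, el' c ∈ M := fun c =>
    M.mul_mem (M.mul_mem (M.inv_mem hkM) (el_mem_of_Y (S.mem_of_linear _ (by
      rw [LinearMap.smul_apply, hφ₁v, smul_zero])) _)) hkM
  have hτel : τ = el' c₀ := by
    have : k * τ * k⁻¹ = el v ((c₀ • φ₁).restrictScalars F)
        (kills_of_linear _ (by rw [LinearMap.smul_apply, hφ₁v, smul_zero])) :=
      LinearEquiv.ext fun x => by
        rw [hφt x, el_apply, hφt_eq]
        rfl
    show τ = k⁻¹ * _ * k
    rw [← this]
    group
  -- the fixed points of `τ`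
  have hτdec : ∀ a c : E, τ (a • v + c • y) = (a * a) • v + (c * c) • y := fun a c => by
    rw [map_add, hτw, hτw, hτv, hτy]
  have hWfix : ∀ x, τ x = x → x = 0 ∨ x = v ∨ x = y ∨ x = v + y := by
    intro x hx
    obtain ⟨a, c, rfl⟩ := hdec x
    rw [hτdec] at hx
    obtain ⟨h1, h3⟩ := hindep (a * a - a) (c * c - c) (by
      rw [sub_smul, sub_smul, show (a * a) • v - a • v + ((c * c) • y - c • y) =
        ((a * a) • v + (c * c) • y) - (a • v + c • y) by abel, hx, sub_self])
    have h01 : ∀ a : E, a * a - a = 0 → a = 0 ∨ a = 1 := fun a ha =>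
      (mul_eq_zero.1 (show a * (a - 1) = 0 by linear_combination ha)).imp id sub_eq_zero.1
    rcases h01 a h1 with rfl | rfl <;> rcases h01 c h3 with rfl | rfl <;> simp
  have hc₀0 : c₀ ≠ 0 := by
    intro h0
    have h1 : τ = 1 := by
      rw [hτel]
      show k⁻¹ * _ * k = 1
      rw [show el v ((c₀ • φ₁).restrictScalars F) (kills_of_linear _ (by rw [LinearMap.smul_apply, hφ₁v, smul_zero])) = 1 from LinearEquiv.ext fun x => by
        simp [h0]]
      group
    have := hτw w v
    rw [h1, LinearEquiv.coe_one, id, id] at this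
    have h3 := smul_left_injective E hv this
    exact hw1 (mul_left_cancel₀ hw0 ((mul_one w).trans h3).symm)
  -- behaviour of the conjugated elations
  have hfixiff : ∀ c : E, c ≠ 0 → ∀ x, el' c x = x → τ x = x := by
    intro c hc x hx
    have h1 : el v ((c • φ₁).restrictScalars F) (kills_of_linear _ (by
        rw [LinearMap.smul_apply, hφ₁v, smul_zero])) (k x) = k x := by
      have := congrArg k hx
      simpa [el', LinearEquiv.mul_apply] using this
    rw [el_apply] at h1
    have h3 : φ₁ (k x) = 0 := by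
      have := (smul_eq_zero.1 (add_left_cancel (h1.trans (add_zero (k x)).symm))).resolve_right hv
      simpa [hc] using this
    rw [hτel]
    show k.symm (k x + (c₀ • φ₁) (k x) • v) = x
    rw [LinearMap.smul_apply, h3, smul_zero, zero_smul, add_zero, LinearEquiv.symm_apply_apply]
  have hfix' : ∀ (c : E) x, τ x = x → el' c x = x := by
    intro c x hx
    rw [hτel] at hx
    have h1 : el v ((c₀ • φ₁).restrictScalars F) (kills_of_linear _ (by
        rw [LinearMap.smul_apply, hφ₁v, smul_zero])) (k x) = k x := by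
      have := congrArg k hx
      simpa [el', LinearEquiv.mul_apply] using this
    rw [el_apply] at h1
    have h3 : φ₁ (k x) = 0 := by
      have := (smul_eq_zero.1 (add_left_cancel (h1.trans (add_zero (k x)).symm))).resolve_right hv
      simpa [hc₀0] using this
    show k.symm (k x + (c • φ₁) (k x) • v) = x
    rw [LinearMap.smul_apply, h3, smul_zero, zero_smul, add_zero, LinearEquiv.symm_apply_apply]
  have hmove : ∀ (c : E) x, τ (el' c x - x) = el' c x - x := by
    intro c x
    have h1 : el' c x - x = k.symm (((c • φ₁) (k x)) • v) := by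
      show k.symm (k x + (c • φ₁) (k x) • v) - x = _
      rw [map_add, LinearEquiv.symm_apply_apply, add_sub_cancel_left]
    rw [hτel, h1]
    show k.symm (k (k.symm _) + (c₀ • φ₁) (k (k.symm _)) • v) = k.symm _
    rw [LinearEquiv.apply_symm_apply, map_smul (c₀ • φ₁), show (c₀ • φ₁) v = 0 by simp [hφ₁v], smul_zero,
      zero_smul, add_zero]
  -- images of the two vectors
  set Q : V := w • v with hQ
  set T : V := w • y with hT
  have hτQ : τ Q = Q + v := by
    rw [hQ, hτw, hτv, hw2, add_smul, one_smul]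
  have hτT : τ T = T + y := by
    rw [hT, hτw, hτy, hw2, add_smul, one_smul]
  have hvy : v ≠ y := fun h => hy (by rw [← h]; exact Submodule.mem_span_singleton_self v)
  have hQTW : ∀ x ∈ ({Q, T, Q + T} : Set V), τ x ≠ x := by
    intro x hx h
    rcases hx with rfl | rfl | rfl
    · exact hv (add_left_cancel (h.symm.trans hτQ |>.symm.trans (add_zero Q).symm))
    · rw [hτT] at h
      have hy0 : y = 0 := add_left_cancel (h.trans (add_zero T).symm)
      exact hy (hy0 ▸ Submodule.zero_mem _)
    · rw [map_add, hτQ, hτT] at h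
      have h3 : v + y = 0 := add_left_cancel (a := Q + T)
        (by rw [add_zero]; exact (by abel : Q + T + (v + y) = Q + v + (T + y)).trans h)
      exact hvy (by
        have := eq_neg_of_add_eq_zero_left h3
        rwa [eq_neg_of_add_eq_zero_left (hVchar y) |>.symm] at this)
  obtain ⟨c, hc0, hcc₀⟩ : ∃ c : E, c ≠ 0 ∧ c ≠ c₀ := by
    rcases eq_or_ne c₀ 1 with h | h
    · exact ⟨w, hw0, h ▸ hw1⟩
    · exact ⟨1, one_ne_zero, h.symm⟩
  have hc' : c + c₀ ≠ 0 := fun h => hcc₀ (by linear_combination h - hchar c₀)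
  have hadd : ∀ x, el' (c + c₀) x = τ (el' c x) := fun x => by
    rw [hτel, ← LinearEquiv.mul_apply]
    refine congrArg (fun g : V ≃ₗ[F] V => g x) ?_
    show k⁻¹ * _ * k = k⁻¹ * _ * k * (k⁻¹ * _ * k)
    rw [show ∀ A B : V ≃ₗ[F] V, k⁻¹ * A * k * (k⁻¹ * B * k) = k⁻¹ * (A * B) * k from fun A B => by group, el_mul]
    congr 2
    refine el_congr _ _ (LinearMap.ext fun z => ?_)
    simp [add_mul, add_comm]
  -- the element with the matrix `Z`
  obtain ⟨z, hzM, hzv, hzy, hzQ, hzT⟩ : ∃ z ∈ M, z v = v ∧ z y = y ∧ z Q = Q + y ∧ z T = T + v + y := by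
    obtain ⟨w₁, hw₁⟩ : ∃ u, el' c Q = Q + u := ⟨el' c Q - Q, (add_sub_cancel _ _).symm⟩
    obtain ⟨w₂, hw₂⟩ : ∃ u, el' c T = T + u := ⟨el' c T - T, (add_sub_cancel _ _).symm⟩
    have hW1 : τ w₁ = w₁ := by
      have := hmove c Q
      rwa [hw₁, add_sub_cancel_left] at this
    have hW2 : τ w₂ = w₂ := by
      have := hmove c T
      rwa [hw₂, add_sub_cancel_left] at this
    have hd1 : el' (c + c₀) Q = Q + (v + w₁) := by rw [hadd, hw₁, map_add, hτQ, hW1, add_assoc]
    have hd2 : el' (c + c₀) T = T + (y + w₂) := by rw [hadd, hw₂, map_add, hτT, hW2, add_assoc]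
    have n1 : w₁ ≠ 0 := fun h => hQTW Q (by simp) (hfixiff c hc0 Q (by rw [hw₁, h, add_zero]))
    have n2 : w₂ ≠ 0 := fun h => hQTW T (by simp) (hfixiff c hc0 T (by rw [hw₂, h, add_zero]))
    have n3 : v + w₁ ≠ 0 := fun h => hQTW Q (by simp) (hfixiff _ hc' Q (by rw [hd1, h, add_zero]))
    have n4 : y + w₂ ≠ 0 := fun h => hQTW T (by simp) (hfixiff _ hc' T (by rw [hd2, h, add_zero]))
    have n5 : w₁ + w₂ ≠ 0 := fun h => hQTW (Q + T) (by simp) (hfixiff c hc0 _ (by
      rw [map_add, hw₁, hw₂, show Q + w₁ + (T + w₂) = Q + T + (w₁ + w₂) by abel, h, add_zero]))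
    have n6 : v + w₁ + (y + w₂) ≠ 0 := fun h => hQTW (Q + T) (by simp) (hfixiff _ hc' _ (by
      rw [map_add, hd1, hd2, show Q + (v + w₁) + (T + (y + w₂)) = Q + T + (v + w₁ + (y + w₂)) by abel, h, add_zero]))
    have hvyv : v + (v + y) = y := by rw [← add_assoc, hVchar, zero_add]
    have hyvy : y + (v + y) = v := by rw [show y + (v + y) = v + (y + y) by abel, hVchar, add_zero]
    rcases hWfix w₁ hW1 with h1 | h1 | h1 | h1
    · exact absurd h1 n1
    · exact absurd (by rw [h1, hVchar]) n3
    · rcases hWfix w₂ hW2 with h3 | h3 | h3 | h3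
      · exact absurd h3 n2
      · exact absurd (by rw [h1, h3, show v + y + (y + v) = v + v + (y + y) by abel, hVchar, hVchar, add_zero]) n6
      · exact absurd (by rw [h1, h3, hVchar]) n5
      · exact ⟨el' c, hel'M c, hfix' c v hτv, hfix' c _ hτy, by rw [hw₁, h1], by rw [hw₂, h3, ← add_assoc]⟩
    · rcases hWfix w₂ hW2 with h3 | h3 | h3 | h3
      · exact absurd h3 n2
      · exact ⟨el' (c + c₀), hel'M _, hfix' _ _ hτv, hfix' _ y hτy, by rw [hd1, h1, hvyv],
          by rw [hd2, h3, add_comm y, ← add_assoc]⟩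
      · exact absurd (by rw [h3, hVchar]) n4
      · exact absurd (by rw [h1, h3, hVchar]) n5
  -- two semilinear maps
  obtain ⟨α, hαv, hαQ, hαy, hαT, hαM⟩ : ∃ α : V ≃ₗ[F] V, α v = T ∧ α Q = y + T ∧ α y = Q ∧ α T = v + Q ∧ α ∈ M := by
    let f : V →ₗ[E] V := b.constr E fun i => if i = i₀ then w • y else w • v
    have hf0 : f v = w • y := by
      conv_lhs => rw [← hb0]
      rw [Basis.constr_basis, if_pos rfl]
    have hf1 : f y = w • v := by
      conv_lhs => rw [← hb1]
      rw [Basis.constr_basis, if_neg hne.symm]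
    have hf : Function.Injective f := by
      rw [injective_iff_map_eq_zero]
      intro x hx
      obtain ⟨a, d, rfl⟩ := hdec x
      rw [map_add, map_smul, map_smul, hf0, hf1, smul_smul, smul_smul, add_comm] at hx
      obtain ⟨h1, h3⟩ := hindep _ _ hx
      rw [(mul_eq_zero.1 h1).resolve_right hw0, (mul_eq_zero.1 h3).resolve_right hw0, zero_smul, zero_smul, add_zero]
    refine ⟨(LinearEquiv.ofBijective f ⟨hf, Finite.injective_iff_surjective.1 hf⟩).restrictScalars F, hf0, ?_, hf1,
      ?_, S.norm_le _ (det_trivial hF _) fun e => ⟨e, fun x => map_smul f e x⟩⟩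
    · show f (w • v) = y + w • y
      rw [map_smul, hf0, smul_smul, hw2, add_smul, one_smul, add_comm]
    · show f (w • y) = v + w • v
      rw [map_smul, hf1, smul_smul, hw2, add_smul, one_smul, add_comm]
  obtain ⟨β, hβv, hβQ, hβy, hβT, hβM⟩ : ∃ β : V ≃ₗ[F] V, β v = v + y + T ∧ β Q = v + Q + T ∧ β y = v + Q + y ∧
      β T = Q + y + T ∧ β ∈ M := by
    let f : V →ₗ[E] V := b.constr E fun i => if i = i₀ then v + w • y else w • v + y
    have hf0 : f v = v + w • y := by
      conv_lhs => rw [← hb0]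
      rw [Basis.constr_basis, if_pos rfl]
    have hf1 : f y = w • v + y := by
      conv_lhs => rw [← hb1]
      rw [Basis.constr_basis, if_neg hne.symm]
    have hf : Function.Injective f := by
      rw [injective_iff_map_eq_zero]
      intro x hx
      obtain ⟨a, d, rfl⟩ := hdec x
      rw [map_add, map_smul, map_smul, hf0, hf1] at hx
      obtain ⟨h1, h3⟩ := hindep (a + d * w) (a * w + d) (by
        rw [add_smul, add_smul, ← smul_smul, ← smul_smul]
        rw [← hx, smul_add, smul_add]
        abel)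
      have ha : a = 0 := by
        have h4 : a * w = 0 := by grind
        exact (mul_eq_zero.1 h4).resolve_right hw0
      rw [ha] at h3 ⊢
      rw [zero_mul, zero_add] at h3
      rw [h3, zero_smul, zero_smul, add_zero]
    let fe : V ≃ₗ[F] V := (LinearEquiv.ofBijective f ⟨hf, Finite.injective_iff_surjective.1 hf⟩).restrictScalars F
    have hfe : ∀ x, fe x = f x := fun x => rfl
    refine ⟨τ * fe, ?_, ?_, ?_, ?_, S.norm_le _ (det_trivial hF _) fun e => ⟨e * e, fun x => ?_⟩⟩
    · rw [LinearEquiv.mul_apply, hfe, hf0, map_add, hτv, ← hT, hτT]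
      abel
    · rw [LinearEquiv.mul_apply, hfe, hQ, map_smul f, hf0, smul_add, smul_smul, hw2, add_smul, one_smul, ← hQ, ← hT,
        map_add, map_add, hτQ, hτT, hτy, show Q + v + (T + y + y) = v + Q + T + (y + y) - y + y by abel, hVchar]
      abel
    · rw [LinearEquiv.mul_apply, hfe, hf1, map_add, ← hQ, hτQ, hτy]
      abel
    · rw [LinearEquiv.mul_apply, hfe, hT, map_smul f, hf1, smul_add, smul_smul, hw2, add_smul, one_smul, ← hQ, ← hT,
        map_add, map_add, hτQ, hτT, hτv, show Q + v + v + (T + y) = Q + y + T + (v + v) by abel, hVchar]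
      abel
    · rw [LinearEquiv.mul_apply, LinearEquiv.mul_apply, hfe, hfe, map_smul f, hτw]
  -- the word
  set g : V ≃ₗ[F] V := β * z * α * z * β with hg
  have hgM : g ∈ M := M.mul_mem (M.mul_mem (M.mul_mem (M.mul_mem hβM hzM) hαM) hzM) hβM
  have hev : ∀ (n : ℤ) (x : V), n % 2 = 0 → n • x = 0 := fun n x hn => by
    obtain ⟨m, rfl⟩ := Int.dvd_of_emod_eq_zero hn
    rw [mul_comm, mul_zsmul, two_zsmul, hVchar, smul_zero]
  have hodd : ∀ (n : ℤ) (x : V), n % 2 = 1 → n • x = x := fun n x hn => by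
    conv_lhs => rw [← Int.mul_ediv_add_emod n 2, hn]
    rw [add_zsmul, hev _ x (by omega), zero_add, one_zsmul]
  have hgv : g v = v := by
    simp only [hg, LinearEquiv.mul_apply, map_add, hαv, hαQ, hαy, hαT, hβv, hβQ, hβy, hβT, hzv, hzy, hzQ, hzT]
    abel_nf
    simp (discharger := decide) only [hev, hodd, zero_add, add_zero]
    try abel
  have hgQ : g Q = Q := by
    simp only [hg, LinearEquiv.mul_apply, map_add, hαv, hαQ, hαy, hαT, hβv, hβQ, hβy, hβT, hzv, hzy, hzQ, hzT]
    abel_nf
    simp (discharger := decide) only [hev, hodd, zero_add, add_zero]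
    try abel
  have hgy : g y = v + Q + y := by
    simp only [hg, LinearEquiv.mul_apply, map_add, hαv, hαQ, hαy, hαT, hβv, hβQ, hβy, hβT, hzv, hzy, hzQ, hzT]
    abel_nf
    simp (discharger := decide) only [hev, hodd, zero_add, add_zero]
    try abel
  have hgT : g T = Q + T := by
    simp only [hg, LinearEquiv.mul_apply, map_add, hαv, hαQ, hαy, hαT, hβv, hβQ, hβy, hβT, hzv, hzy, hzQ, hzT]
    abel_nf
    simp (discharger := decide) only [hev, hodd, zero_add, add_zero]
    try abel
  -- it is a non-linear elation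
  obtain ⟨φv, hφvv, hφvy⟩ := exists_fn_line (notMem_line_symm hv hy)
  let ψ : V →ₗ[F] E := (φv.restrictScalars F).comp (g.toLinearMap - LinearMap.id)
  have hfourV : ∀ e : E, ∀ u : V, e • u = 0 ∨ e • u = u ∨ e • u = w • u ∨ e • u = w • u + u := fun e u => by
    rcases hfour e with h | h | h | h <;> rw [h]
    · simp
    · simp
    · simp
    · simp [add_smul]
  have hψk : Kills v ψ := fun e => by
    show φv (g (e • v) - e • v) = 0
    rcases hfourV e v with h | h | h | h <;> rw [h]
    · simp
    · rw [hgv, sub_self, map_zero]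
    · rw [← hQ, hgQ, sub_self, map_zero]
    · rw [← hQ, map_add g, hgQ, hgv, sub_self, map_zero]
  have hge : g = el v ψ hψk := by
    refine LinearEquiv.ext fun x => ?_
    obtain ⟨a, d, rfl⟩ := hdec x
    rw [el_apply, map_add ψ, hψk, zero_add, map_add g]
    have hv' : g (a • v) = a • v := by
      rcases hfourV a v with h | h | h | h <;> rw [h]
      · simp
      · exact hgv
      · rw [← hQ, hgQ]
      · rw [← hQ, map_add g, hgQ, hgv]
    rw [hv', add_assoc]
    congr 1
    show g (d • y) = d • y + φv (g (d • y) - d • y) • v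
    rcases hfourV d y with h | h | h | h <;> rw [h]
    · simp
    · rw [hgy, show v + Q + y - y = v + Q by abel, map_add φv, hφvv, hQ, map_smul φv, hφvv, smul_eq_mul, mul_one,
        add_smul, one_smul]
      abel
    · rw [← hT, hgT, show Q + T - T = Q by abel, hQ, map_smul φv, hφvv, smul_eq_mul, mul_one]
      abel
    · rw [← hT, map_add g, hgT, hgy, show Q + T + (v + Q + y) - (T + y) = v + (Q + Q) by abel, hVchar, add_zero,
        hφvv, one_smul, show Q + T + (v + Q + y) = T + y + v + (Q + Q) by abel, hVchar, add_zero]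
  have hψY : ψ ∈ Y E M v := ⟨hψk, hge ▸ hgM⟩
  have hlin := S.linear_Y hF hE hv hall hψY w y
  have h4 : φv (g T - T) = w * φv (g y - y) := hlin
  rw [hgT, hgy, show Q + T - T = Q by abel, show v + Q + y - y = v + Q by abel, hQ, map_smul φv, map_add φv,
    map_smul φv, hφvv, smul_eq_mul, mul_one] at h4
  have : w * (w + 1) = w * 1 := by rw [mul_one]; linear_combination h4.symm
  exact hw0 (by linear_combination mul_left_cancel₀ hw0 this)

end CfsgLib.Perm.ExtField
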