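import Cfsg.Agent.Lib.Perm.ExtField.Elation

/-!
# The Sylow subgroups of a vector stabiliser
-/

set_option autoImplicit false
set_option linter.all false

namespace CfsgLib.Perm.ExtField

open Module
open scoped commutatorElement

theorem eq_of_normalizer_step {G : Type*} [Group G] [Finite G] {p : ℕ} [Fact p.Prime] {H P : Subgroup G}
    (hP : IsPGroup p P) (hle : H ≤ P)
    (h : ∀ x ∈ P, (∀ y, y ∈ H ↔ x * y * x⁻¹ ∈ H) → x ∈ H) : H = P := by
  haveI : Group.IsNilpotent P := hP.isNilpotent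
  have hnc : NormalizerCondition P := normalizerCondition_of_isNilpotent
  refine le_antisymm hle (Subgroup.subgroupOf_eq_top.1 ?_)
  by_contra hne
  obtain ⟨x, hx, hx'⟩ := SetLike.exists_of_lt (hnc _ (lt_top_iff_ne_top.2 hne))
  refine hx' (h x.1 x.2 fun y => ?_)
  rw [Subgroup.mem_normalizer_iff] at hx
  refine ⟨fun hy => ?_, fun hy => ?_⟩
  · exact (hx ⟨y, hle hy⟩).1 hy
  · have hyP : y ∈ P := by
      have := P.mul_mem (P.mul_mem (P.inv_mem x.2) (hle hy)) x.2
      simpa [mul_assoc] using this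
    exact (hx ⟨y, hyP⟩).2 hy

section Defs

variable {F : Type*} [Field F] {E : Type*} [Field E] [Algebra F E]
variable {V : Type*} [AddCommGroup V] [Module F V] [Module E V] [IsScalarTower F E V]

variable (E) in
/-- setwise stabiliser of the line of `v` -/
def lineStab (v : V) : Subgroup (V ≃ₗ[F] V) where
  carrier := {g | ∀ x, x ∈ Submodule.span E {v} ↔ g x ∈ Submodule.span E {v}}
  mul_mem' := fun {a b} ha hb x => (hb x).trans (ha (b x))
  one_mem' := fun x => Iff.rfl
  inv_mem' := fun {a} ha x => by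
    conv_lhs => rw [show x = a ((a⁻¹ : V ≃ₗ[F] V) x) from (a.apply_symm_apply x).symm]
    exact (ha _).symm

variable (E) in
/-- pointwise stabiliser of the line of `v` -/
def lineFix (v : V) : Subgroup (V ≃ₗ[F] V) where
  carrier := {g | ∀ e : E, g (e • v) = e • v}
  mul_mem' := fun {a b} ha hb e => by rw [LinearEquiv.mul_apply, hb, ha]
  one_mem' := fun e => rfl
  inv_mem' := fun {a} ha e => by
    conv_lhs => rw [← ha e]
    exact a.symm_apply_apply _

/-- stabiliser of a vector -/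
def vecStab (v : V) : Subgroup (V ≃ₗ[F] V) where
  carrier := {g | g v = v}
  mul_mem' := fun {a b} (ha : a v = v) (hb : b v = v) => show (a * b) v = v by rw [LinearEquiv.mul_apply, hb, ha]
  one_mem' := rfl
  inv_mem' := fun {a} (ha : a v = v) => show a.symm v = v from a.symm_apply_eq.2 ha.symm

theorem lineFix_le_vecStab (v : V) : lineFix (F := F) E v ≤ vecStab v := fun g hg => by
  have := hg 1
  show g v = v
  simpa [one_smul] using this

theorem el_pow (v : V) {ψ : V →ₗ[F] E} (h : Kills v ψ) (n : ℕ) :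
    ∃ h' : Kills v (n • ψ), el v ψ h ^ n = el v (n • ψ) h' := by
  induction n with
  | zero =>
    exact ⟨fun e => by simp, by rw [pow_zero]; exact LinearEquiv.ext fun x => by simp⟩
  | succ n ih =>
    obtain ⟨h', hn⟩ := ih
    refine ⟨fun e => by simp [h e], ?_⟩
    rw [pow_succ, hn, el_mul]
    exact el_congr _ _ (succ_nsmul ψ n).symm

variable (E) in
/-- the elation subgroup of `M` at `v` -/
def elGroup (M : Subgroup (V ≃ₗ[F] V)) (v : V) : Subgroup (V ≃ₗ[F] V) where
  carrier := {g | ∃ ψ : V →ₗ[F] E, ∃ h : Kills v ψ, el v ψ h ∈ M ∧ g = el v ψ h}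
  mul_mem' := by
    rintro _ _ ⟨ψ, h, hm, rfl⟩ ⟨χ, h', hm', rfl⟩
    exact ⟨ψ + χ, h.add h', el_mul v h h' ▸ M.mul_mem hm hm', el_mul v h h'⟩
  one_mem' := ⟨0, kills_zero v, (el_zero (F := F) (E := E) v).symm ▸ M.one_mem, (el_zero v).symm⟩
  inv_mem' := by
    rintro _ ⟨ψ, h, hm, rfl⟩
    exact ⟨-ψ, h.neg, el_inv v h ▸ M.inv_mem hm, el_inv v h⟩

end Defs

section Main

variable {F : Type*} [Field F] [Finite F] {E : Type*} [Field E] [Algebra F E] [FiniteDimensional F E] [Finite E]
variable {V : Type*} [AddCommGroup V] [Module F V] [Module E V] [IsScalarTower F E V]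
variable [FiniteDimensional E V] [FiniteDimensional F V] [Finite V]
variable {p : ℕ} [Fact p.Prime] [CharP F p]
variable {M : Subgroup (V ≃ₗ[F] V)}

instance finite_linearEquiv {R W : Type*} [Semiring R] [AddCommMonoid W] [Module R W] [Finite W] :
    Finite (W ≃ₗ[R] W) := Finite.of_injective (fun g : W ≃ₗ[R] W => (g : W → W)) DFunLike.coe_injective

theorem gal_comm (σ τ : E ≃ₐ[F] E) : σ * τ = τ * σ := by
  haveI : Fintype F := Fintype.ofFinite F
  obtain ⟨i, rfl⟩ := (FiniteField.bijective_frobeniusAlgEquivOfAlgebraic_pow F E).2 σ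
  obtain ⟨j, rfl⟩ := (FiniteField.bijective_frobeniusAlgEquivOfAlgebraic_pow F E).2 τ
  exact Commute.pow_pow (Commute.refl _) _ _

theorem Setup.exists_gal (S : Setup E M) {v : V} (hv : v ≠ 0) (hall : ¬ All E M v) {g : V ≃ₗ[F] V}
    (hgM : g ∈ M) (hgv : g v = v) (hgL : g ∈ lineStab E v) :
    ∃! σ : E ≃ₐ[F] E, ∀ e : E, g (e • v) = σ e • v := by
  classical
  obtain ⟨φ, hφ⟩ := exists_fn_one (E := E) hv
  let a : E →ₗ[F] E :=
    ((φ.restrictScalars F).comp g.toLinearMap).comp ((LinearMap.id : E →ₗ[F] E).smulRight v)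
  have hga : ∀ e : E, g (e • v) = a e • v := by
    intro e
    obtain ⟨c, hc⟩ := Submodule.mem_span_singleton.1
      ((hgL _).1 (Submodule.mem_span_singleton.2 ⟨e, rfl⟩))
    show g (e • v) = φ (g (e • v)) • v
    rw [← hc, map_smul, hφ, smul_eq_mul, mul_one]
  have ha1 : a 1 = 1 := by
    have := hga 1
    rw [one_smul, hgv] at this
    exact (smul_left_injective E hv (show (1 : E) • v = a 1 • v by rw [one_smul]; exact this)).symm
  have hinj : Function.Injective a := fun e e' he => by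
    have h1 : g (e • v) = g (e' • v) := by rw [hga, hga, he]
    exact smul_left_injective E hv (g.injective h1)
  let σ : E ≃ₐ[F] E := AlgEquiv.ofLinearEquiv
    (LinearEquiv.ofBijective a ⟨hinj, Finite.injective_iff_surjective.1 hinj⟩) ha1
    (fun x y => S.semilinear_on_line hv hall hgM hga ha1 x y)
  refine ⟨σ, hga, fun τ hτ => AlgEquiv.ext fun e => smul_left_injective E hv ?_⟩
  show τ e • v = σ e • v
  rw [← hτ]
  exact hga e

/-- data attached to a line without all elations -/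
theorem Setup.sylow_data (S : Setup E M) {v : V} (hv : v ≠ 0) (hall : ¬ All E M v) :
    ∃ P₀ : Subgroup (V ≃ₗ[F] V), P₀ ≤ M ⊓ lineFix E v ∧ IsPGroup p P₀ ∧
      (∀ x, (∀ g ∈ P₀, g x = x) → x ∈ Submodule.span E {v}) ∧
      (∀ R, P₀ ≤ R → R ≤ M ⊓ lineFix E v → IsPGroup p R → R = P₀) ∧
      (∀ k, p ^ k ∣ Nat.card ↥(M ⊓ vecStab v) → p ^ k ∣ finrank F E * Nat.card P₀) := by
  classical
  set MP := M ⊓ lineFix E v with hMP
  set Mv := M ⊓ vecStab v with hMv
  have hMPMv : MP ≤ Mv := inf_le_inf_left _ (lineFix_le_vecStab v)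
  obtain ⟨T⟩ : Nonempty (Sylow p MP) := inferInstance
  set P₀ : Subgroup (V ≃ₗ[F] V) := (T : Subgroup MP).map MP.subtype with hP₀
  have hP₀le : P₀ ≤ MP := Subgroup.map_subtype_le _
  have hP₀p : IsPGroup p P₀ := T.isPGroup'.map MP.subtype
  have hmax : ∀ R, P₀ ≤ R → R ≤ MP → IsPGroup p R → R = P₀ := by
    intro R h1 h2 hR
    have h3 : (T : Subgroup MP) ≤ R.subgroupOf MP := fun t ht => h1 ⟨t, ht, rfl⟩
    have h4 := T.is_maximal' (hR.comap_of_injective MP.subtype MP.subtype_injective) h3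
    rw [hP₀, ← h4]
    exact ((Subgroup.subgroupOf_map_subtype R MP).trans (inf_eq_left.2 h2)).symm
  -- the elations
  have hRle : elGroup E M v ≤ P₀ := by
    have hRMP : elGroup E M v ≤ MP := by
      rintro _ ⟨ψ, h, hm, rfl⟩
      exact ⟨hm, fun e => by rw [el_apply, h, zero_smul, add_zero]⟩
    have hRp : IsPGroup p (elGroup E M v) := by
      rintro ⟨_, ψ, h, hm, rfl⟩
      refine ⟨1, Subtype.ext ?_⟩
      obtain ⟨h', hp⟩ := el_pow v h p
      rw [pow_one, SubgroupClass.coe_pow, hp, OneMemClass.coe_one, ← el_zero (F := F) (E := E) v]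
      refine el_congr _ _ ?_
      rw [← Nat.cast_smul_eq_nsmul F, CharP.cast_eq_zero, zero_smul]
    haveI hRn : ((elGroup E M v).subgroupOf MP).Normal := by
      refine ⟨fun x hx y => ?_⟩
      rw [Subgroup.mem_subgroupOf] at hx ⊢
      obtain ⟨ψ, h, hm, he⟩ := hx
      have hy : ∀ e : E, (y : V ≃ₗ[F] V) (e • v) = (LinearMap.id : E →ₗ[F] E) e • v := y.2.2
      obtain ⟨hk, hk'⟩ := S.conj_mem y.2.1 hv hy (ψ := ψ) ⟨h, hm⟩
      refine ⟨_, hk, hk', ?_⟩
      rw [Subgroup.coe_mul, Subgroup.coe_mul, Subgroup.coe_inv, he]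
      exact conj_el hy h hk
    have hsup : IsPGroup p ↥((T : Subgroup MP) ⊔ (elGroup E M v).subgroupOf MP) :=
      IsPGroup.to_sup_of_normal_right T.isPGroup' (hRp.comap_of_injective MP.subtype MP.subtype_injective)
    have h4 := T.is_maximal' hsup le_sup_left
    intro g hg
    refine ⟨⟨g, hRMP hg⟩, ?_, rfl⟩
    rw [SetLike.mem_coe, ← h4]
    exact le_sup_right (a := (T : Subgroup MP)) (Subgroup.mem_subgroupOf.2 hg)
  have hlin : ∀ (φ : V →ₗ[E] E) (h : φ v = 0),
      el v (φ.restrictScalars F) (kills_of_linear φ h) ∈ P₀ := fun φ h =>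
    hRle ⟨_, kills_of_linear φ h, el_mem_of_Y (S.mem_of_linear φ h) _, rfl⟩
  have hfix : ∀ x, (∀ g ∈ P₀, g x = x) → x ∈ Submodule.span E {v} := by
    intro x hx
    by_contra hxl
    obtain ⟨φ, h1, h2⟩ := exists_fn_line hxl
    have := hx _ (hlin φ h2)
    simp [h1] at this
    exact hv this
  refine ⟨P₀, hP₀le, hP₀p, hfix, hmax, fun k hk => ?_⟩
  -- a Sylow subgroup of the vector stabiliser
  have hP₀Mv : P₀ ≤ Mv := hP₀le.trans hMPMv
  obtain ⟨Q', hQ'⟩ := (hP₀p.comap_of_injective Mv.subtype Mv.subtype_injective).exists_le_sylow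
  set Q : Subgroup (V ≃ₗ[F] V) := (Q' : Subgroup Mv).map Mv.subtype with hQ
  have hQMv : Q ≤ Mv := Subgroup.map_subtype_le _
  have hP₀Q : P₀ ≤ Q := fun g hg => ⟨⟨g, hP₀Mv hg⟩, hQ' hg, rfl⟩
  have hQp : IsPGroup p Q := Q'.isPGroup'.map Mv.subtype
  have hQcard : p ^ k ∣ Nat.card Q := by
    rw [Nat.card_congr (Subgroup.equivMapOfInjective (Q' : Subgroup Mv) _ Mv.subtype_injective).symm.toEquiv]
    exact Q'.pow_dvd_card_of_pow_dvd_card hk
  refine hQcard.trans ?_
  -- the part stabilising the line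
  set H := Q ⊓ lineStab E v with hH
  have hP₀H : P₀ ≤ H := fun g hg => ⟨hP₀Q hg, by
    have hf := (hP₀le hg).2
    intro x
    constructor
    · intro hx
      obtain ⟨e, rfl⟩ := Submodule.mem_span_singleton.1 hx
      rw [hf e]
      exact hx
    · intro hx
      obtain ⟨e, he⟩ := Submodule.mem_span_singleton.1 hx
      rw [← hf e] at he
      rw [← g.injective he]
      exact Submodule.mem_span_singleton.2 ⟨e, rfl⟩⟩
  have hex : ∀ g : H, ∃! σ : E ≃ₐ[F] E, ∀ e : E, (g : V ≃ₗ[F] V) (e • v) = σ e • v := fun g =>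
    S.exists_gal hv hall (hQMv g.2.1).1 (hQMv g.2.1).2 g.2.2
  choose θ₀ hθ₀ hθu using hex
  let θ : H →* (E ≃ₐ[F] E) := MonoidHom.mk' θ₀ fun g h => (hθu (g * h) _ fun e => by
    rw [Subgroup.coe_mul, LinearEquiv.mul_apply, hθ₀, hθ₀, AlgEquiv.mul_apply]).symm
  have hθ : ∀ (g : H) (e : E), (g : V ≃ₗ[F] V) (e • v) = θ g e • v := fun g e => hθ₀ g e
  have hker : ∀ g : H, θ g = 1 → (g : V ≃ₗ[F] V) ∈ P₀ := by
    intro g hg
    have h1 : ((θ.ker).map H.subtype) = P₀ := by
      refine hmax _ ?_ ?_ ?_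
      · intro x hx
        refine ⟨⟨x, hP₀H hx⟩, ?_, rfl⟩
        refine MonoidHom.mem_ker.2 (AlgEquiv.ext fun e => smul_left_injective E hv ?_)
        show θ _ e • v = e • v
        rw [← hθ]
        exact (hP₀le hx).2 e
      · rintro _ ⟨x, hx, rfl⟩
        refine ⟨(hQMv x.2.1).1, fun e => ?_⟩
        show (x : V ≃ₗ[F] V) (e • v) = e • v
        rw [hθ, MonoidHom.mem_ker.1 hx]
        rfl
      · exact (hQp.to_le inf_le_left).to_subgroup θ.ker |>.map H.subtype
    exact h1 ▸ ⟨g, hg, rfl⟩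
  have hHQ : H = Q := by
    refine eq_of_normalizer_step hQp inf_le_left fun x hxQ hxn => ⟨hxQ, ?_⟩
    -- the subgroup whose fixed space is the line
    obtain ⟨D, hDfix, hDL, hDn⟩ : ∃ D : Subgroup (V ≃ₗ[F] V), (∀ g ∈ D, ∀ e : E, g (e • v) = e • v) ∧
        (∀ y, (∀ g ∈ D, g y = y) → y ∈ Submodule.span E {v}) ∧
        (∀ y, y ∈ D ↔ x * y * x⁻¹ ∈ D) := by
      by_cases htriv : ∀ g : H, θ g = 1
      · refine ⟨H, fun g hg e => ?_, fun y hy => hfix y fun g hg => hy g (hP₀H hg), hxn⟩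
        show ((⟨g, hg⟩ : H) : V ≃ₗ[F] V) (e • v) = e • v
        rw [hθ, htriv]
        rfl
      push Not at htriv
      obtain ⟨s, hs⟩ := htriv
      refine ⟨⁅H, H⁆, ?_, ?_, ?_⟩
      · have hle : ⁅H, H⁆ ≤ lineFix E v := by
          rw [Subgroup.commutator_le]
          intro a ha b hb e
          have h1 : θ (⁅(⟨a, ha⟩ : H), ⟨b, hb⟩⁆) = 1 := by
            rw [map_commutatorElement, commutatorElement_eq_one_iff_mul_comm]
            exact gal_comm _ _
          show (((⁅(⟨a, ha⟩ : H), ⟨b, hb⟩⁆ : H)) : V ≃ₗ[F] V) (e • v) = e • v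
          rw [hθ, h1]
          rfl
        exact fun g hg => hle hg
      · intro y hy
        by_contra hyl
        obtain ⟨φ, h1, h2⟩ := exists_fn_line hyl
        have key : ∀ e : E, θ s (e * φ (((s : V ≃ₗ[F] V)⁻¹ : V ≃ₗ[F] V) y)) = e := by
          intro e
          have h3 : (e • φ) v = 0 := by rw [LinearMap.smul_apply, h2, smul_zero]
          have hc := hy _ (Subgroup.commutator_mem_commutator s.2 (hP₀H (hlin _ h3)))
          rw [commutatorElement_def, el_inv] at hc
          simp only [LinearEquiv.mul_apply, el_apply, LinearMap.neg_apply, LinearMap.restrictScalars_apply,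
            LinearMap.smul_apply, h1, smul_eq_mul, mul_one, neg_smul] at hc
          have h4 : ((s : V ≃ₗ[F] V)⁻¹ : V ≃ₗ[F] V) (y + -(e • v)) =
              ((s : V ≃ₗ[F] V)⁻¹ : V ≃ₗ[F] V) y - (θ s).symm e • v := by
            rw [← sub_eq_add_neg, map_sub]
            congr 1
            refine (s : V ≃ₗ[F] V).injective ?_
            rw [hθ]
            exact ((s : V ≃ₗ[F] V).apply_symm_apply _).trans (by simp)
          rw [h4, map_sub φ, map_smul φ, h2, smul_zero, sub_zero, map_add, map_sub,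
            show (s : V ≃ₗ[F] V) ((((s : V ≃ₗ[F] V)⁻¹ : V ≃ₗ[F] V)) y) = y from (s : V ≃ₗ[F] V).apply_symm_apply y,
            hθ, hθ, AlgEquiv.apply_symm_apply] at hc
          have h5 : θ s (e * φ (((s : V ≃ₗ[F] V)⁻¹ : V ≃ₗ[F] V) y)) • v = e • v := by
            rw [sub_add, sub_eq_self, sub_eq_zero] at hc
            exact hc.symm
          exact smul_left_injective E hv h5
        refine hs (AlgEquiv.ext fun e => ?_)
        have k1 := key 1
        have ke := key e
        rw [one_mul] at k1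
        rw [map_mul, k1, mul_one] at ke
        exact ke
      · have hxH : H.map (MulAut.conj x).toMonoidHom = H := by
          refine le_antisymm ?_ fun y hy => ?_
          · rintro _ ⟨y, hy, rfl⟩
            exact (hxn y).1 hy
          · refine ⟨x⁻¹ * y * x, (hxn _).2 ?_, ?_⟩
            · simpa [mul_assoc] using hy
            · simp [mul_assoc]
        intro y
        have hD : (⁅H, H⁆).map (MulAut.conj x).toMonoidHom = ⁅H, H⁆ := by
          rw [Subgroup.map_commutator, hxH]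
        conv_rhs => rw [← hD]
        rw [show x * y * x⁻¹ = (MulAut.conj x).toMonoidHom y from rfl,
          Subgroup.mem_map_iff_mem (MulAut.conj x).injective]
    have hfwd : ∀ w : V, w ∈ Submodule.span E {v} → x w ∈ Submodule.span E {v} := by
      intro w hw
      refine hDL _ fun g hg => ?_
      obtain ⟨e, rfl⟩ := Submodule.mem_span_singleton.1 hw
      have h1 := hDfix _ ((hDn (x⁻¹ * g * x)).2 (by simpa [mul_assoc] using hg)) e
      rw [LinearEquiv.mul_apply, LinearEquiv.mul_apply] at h1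
      exact x.symm_apply_eq.1 h1
    intro w
    refine ⟨hfwd w, fun hw => ?_⟩
    have hbij : Function.Bijective (fun z : Submodule.span E {v} => (⟨x z, hfwd z z.2⟩ : Submodule.span E {v})) :=
      Finite.injective_iff_bijective.1 fun a b hab => Subtype.ext (x.injective (congrArg Subtype.val hab))
    obtain ⟨z, hz⟩ := hbij.2 ⟨x w, hw⟩
    exact x.injective (congrArg Subtype.val hz) ▸ z.2
  rw [← hHQ, ← θ.ker.card_mul_index, Subgroup.index_ker, mul_comm]
  refine Nat.mul_dvd_mul ?_ ?_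
  · rw [← IsGalois.card_aut_eq_finrank F E]
    exact Subgroup.card_subgroup_dvd_card _
  · rw [Nat.card_congr (Subgroup.equivMapOfInjective θ.ker _ H.subtype_injective).toEquiv]
    refine Subgroup.card_dvd_of_le ?_
    rintro _ ⟨g, hg, rfl⟩
    exact hker g hg

end Main

end CfsgLib.Perm.ExtField
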