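import Cfsg.Agent.Lib.Perm.ExtField.Frob

/-!
# The field with two elements and a quadratic extension
-/

set_option autoImplicit false
set_option linter.all false

namespace CfsgLib.Perm.ExtField

open Module

variable {F : Type*} [Field F] [Finite F] {E : Type*} [Field E] [Algebra F E] [FiniteDimensional F E] [Finite E]
variable {V : Type*} [AddCommGroup V] [Module F V] [Module E V] [IsScalarTower F E V]
variable [FiniteDimensional E V] [FiniteDimensional F V] [Finite V]
variable {M : Subgroup (V ≃ₗ[F] V)}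

theorem det_trivial (hF : Nat.card F = 2) (g : V ≃ₗ[F] V) : LinearEquiv.det g = 1 := by
  haveI : Subsingleton Fˣ := (Nat.card_eq_one_iff_unique.1 (by rw [Nat.card_units, hF])).1
  exact Subsingleton.elim _ _

theorem scalar_eq (hF : Nat.card F = 2) (c : F) : c = 0 ∨ c = 1 := by
  classical
  by_contra hcon
  push Not at hcon
  have h3 : ({0, 1, c} : Finset F).card = 3 := Finset.card_eq_three.2
    ⟨0, 1, c, zero_ne_one, hcon.1.symm, hcon.2.symm, rfl⟩
  haveI : Fintype F := Fintype.ofFinite F
  have := Finset.card_le_univ ({0, 1, c} : Finset F)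
  rw [Nat.card_eq_fintype_card] at hF
  omega

theorem exists_omega (hF : Nat.card F = 2) (hE : finrank F E = 2) :
    ∃ w : E, w * w = w + 1 ∧ w ≠ 0 ∧ w ≠ 1 ∧ (∀ e : E, e = 0 ∨ e = 1 ∨ e = w ∨ e = w + 1) ∧
      (∀ e : E, e + e = 0) := by
  classical
  haveI : Fintype E := Fintype.ofFinite E
  have h4 : Fintype.card E = 4 := by
    rw [← Nat.card_eq_fintype_card, Module.natCard_eq_pow_finrank (K := F), hF, hE]
    norm_num
  have h2 : (1 : E) + 1 = 0 := by
    rcases scalar_eq hF ((1 : F) + 1) with h | h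
    · simpa using congrArg (algebraMap F E) h
    · exact absurd (by simpa using h : (1 : F) = 0) one_ne_zero
  have hchar : ∀ e : E, e + e = 0 := fun e => by linear_combination e * h2
  obtain ⟨w, hw⟩ : ∃ w : E, w ∉ ({0, 1} : Finset E) := by
    by_contra hcon
    push Not at hcon
    have := Finset.card_le_card (fun e _ => hcon e : (Finset.univ : Finset E) ⊆ {0, 1})
    rw [Finset.card_univ, h4] at this
    have := this.trans Finset.card_le_two
    omega
  simp only [Finset.mem_insert, Finset.mem_singleton, not_or] at hw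
  have hne : ∀ a : E, a ≠ 0 → w + a ≠ w := fun a ha h => ha (by linear_combination h)
  have hall : ∀ e : E, e = 0 ∨ e = 1 ∨ e = w ∨ e = w + 1 := by
    intro e
    have hcard : ({0, 1, w, w + 1} : Finset E).card = 4 := by
      have h0 : w + 1 ≠ 0 := fun h => hw.2 (by linear_combination h - h2)
      have h1 : w + 1 ≠ 1 := fun h => hw.1 (by linear_combination h)
      rw [Finset.card_insert_of_notMem (by simp [zero_ne_one, Ne.symm hw.1, Ne.symm h0]),
        Finset.card_insert_of_notMem (by simp [Ne.symm hw.2, Ne.symm h1]),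
        Finset.card_insert_of_notMem (by simp [(hne 1 one_ne_zero).symm]), Finset.card_singleton]
    have := Finset.eq_univ_of_card _ (hcard.trans h4.symm)
    have he : e ∈ ({0, 1, w, w + 1} : Finset E) := this ▸ Finset.mem_univ e
    simpa using he
  refine ⟨w, ?_, hw.1, hw.2, hall, hchar⟩
  rcases hall (w * w) with h | h | h | h
  · exact absurd h (mul_ne_zero hw.1 hw.1)
  · exact absurd (mul_self_eq_one_iff.1 h) (by
      rintro (h' | h')
      · exact hw.2 h'
      · exact hw.2 (by grind))
  · exact absurd (mul_left_cancel₀ hw.1 (h.trans (mul_one w).symm)) hw.2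
  · exact h

/-- in this case the elations are linear -/
theorem Setup.linear_Y (S : Setup E M) (hF : Nat.card F = 2) (hE : finrank F E = 2) {v : V} (hv : v ≠ 0)
    (hall : ¬ All E M v) {ψ : V →ₗ[F] E} (hψ : ψ ∈ Y E M v) :
    ∀ (e : E) (x : V), ψ (e • x) = e * ψ x := by
  classical
  obtain ⟨w, hw2, hw0, hw1, hfour, hchar⟩ := exists_omega (F := F) (E := E) hF hE
  -- scalars
  let sw : V ≃ₗ[F] V := (LinearEquiv.smulOfNeZero E V w hw0).restrictScalars F
  have hsw : ∀ x, sw x = w • x := fun x => rfl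
  have hswM : sw ∈ M := S.norm_le _ (det_trivial hF _) fun e => ⟨e, fun x => by rw [hsw, hsw, smul_comm]⟩
  let χ : V →ₗ[F] E := ψ.comp sw.toLinearMap + (Algebra.lmul F E w).comp ψ
  have hχ : χ ∈ Y E M v := by
    refine (Y E M v).add_mem ?_ (S.lmul_mem_ID hv w ψ hψ)
    have h1 : ∀ e : E, (sw⁻¹ : V ≃ₗ[F] V) (e • v) = Algebra.lmul F E w⁻¹ e • v := fun e => by
      refine sw.symm_apply_eq.2 ?_
      rw [hsw, smul_smul]
      show e • v = (w * (w⁻¹ * e)) • v
      rw [← mul_assoc, mul_inv_cancel₀ hw0, one_mul]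
    have h2 := S.lmul_mem_ID hv w _ (S.conj_mem (M.inv_mem hswM) hv h1 hψ)
    convert h2 using 1
    refine LinearMap.ext fun x => ?_
    show ψ (sw x) = w * (w⁻¹ * ψ (((sw⁻¹)⁻¹ : V ≃ₗ[F] V) x))
    rw [inv_inv, ← mul_assoc, mul_inv_cancel₀ hw0, one_mul]
  have hχapp : ∀ x, χ x = ψ (w • x) + w * ψ x := fun x => rfl
  have hψ2 : ∀ x, ψ (w • w • x) = ψ (w • x) + ψ x := fun x => by
    rw [smul_smul, hw2, add_smul, one_smul, map_add]
  have hχw : ∀ x, χ (w • x) = w * w * χ x := fun x => by
    rw [hχapp, hχapp, hψ2]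
    have h2 : (2 : E) = 0 := by linear_combination hchar (1 : E)
    grind
  have hkill : Kills v χ := hχ.1
  by_cases hz : ∀ x, χ x = 0
  · intro e x
    have h1 : ψ (w • x) = w * ψ x := by
      have := hz x
      rw [hχapp] at this
      linear_combination this - hchar (w * ψ x)
    rcases hfour e with h | h | h | h <;> rw [h]
    · simp
    · simp
    · exact h1
    · rw [add_smul, one_smul, map_add, h1, add_mul, one_mul]
  exfalso
  push Not at hz
  obtain ⟨z₁, hz₁⟩ := hz
  -- the square of `χ` is linear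
  let φ₁ : V →ₗ[E] E :=
    { toFun := fun x => χ x * χ x
      map_add' := fun x y => by rw [map_add]; linear_combination hchar (χ x * χ y)
      map_smul' := fun e x => by
        have h2 : (2 : E) = 0 := by linear_combination hchar (1 : E)
        rcases hfour e with h | h | h | h <;> rw [h]
        · simp
        · simp
        · rw [hχw, RingHom.id_apply, smul_eq_mul]
          grind
        · rw [add_smul, one_smul, map_add, hχw, RingHom.id_apply, smul_eq_mul]
          grind }
  have hφ₁v : φ₁ v = 0 := by show χ v * χ v = 0; rw [hkill.self, mul_zero]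
  have hsq : ∀ (φ : V →ₗ[E] E), φ v = 0 → ∀ χ' : V →ₗ[F] E, (∀ x, χ' x = φ x * φ x) → χ' ∈ Y E M v := by
    intro φ hφv χ' hχ'
    by_cases hφ0 : φ = 0
    · have : χ' = 0 := LinearMap.ext fun x => by simp [hχ' x, hφ0]
      rw [this]
      exact (Y E M v).zero_mem
    obtain ⟨z₂, hz₂⟩ : ∃ x, φ x ≠ 0 := by
      by_contra hcon
      push Not at hcon
      exact hφ0 (LinearMap.ext hcon)
    obtain ⟨z, hz, hz'⟩ : ∃ z, φ₁ z ≠ 0 ∧ φ z ≠ 0 := by
      have h1 : φ₁ z₁ ≠ 0 := mul_ne_zero hz₁ hz₁
      by_cases ha : φ z₁ = 0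
      · by_cases hb : φ₁ z₂ = 0
        · exact ⟨z₁ + z₂, by rw [map_add, hb, add_zero]; exact h1, by rw [map_add, ha, zero_add]; exact hz₂⟩
        · exact ⟨z₂, hb, hz₂⟩
      · exact ⟨z₁, h1, ha⟩
    let δ : V →ₗ[E] E := (φ₁ z)⁻¹ • (φ - φ₁)
    have hunit : IsUnit (1 + δ z) := by
      refine isUnit_iff_ne_zero.2 ?_
      rw [show 1 + δ z = φ z * (φ₁ z)⁻¹ by
        show 1 + (φ₁ z)⁻¹ * (φ z - φ₁ z) = φ z * (φ₁ z)⁻¹
        field_simp
        ring]
      exact mul_ne_zero hz' (inv_ne_zero hz)
    let B : V ≃ₗ[F] V := (LinearEquiv.dilatransvection hunit).restrictScalars F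
    have hB : ∀ x, B x = x + δ x • z := fun x => LinearEquiv.dilatransvection.apply (h := hunit)
    have hBM : B ∈ M := S.norm_le _ (det_trivial hF _) fun e => ⟨e, fun x => by
      rw [hB, hB, map_smul, smul_eq_mul, smul_add, smul_smul]⟩
    have hBv : ∀ e : E, (B⁻¹ : V ≃ₗ[F] V) (e • v) = (LinearMap.id : E →ₗ[F] E) e • v := fun e => by
      refine B.symm_apply_eq.2 ?_
      rw [hB]
      simp [δ, hφv, hφ₁v]
    have h1 := S.conj_mem (M.inv_mem hBM) hv hBv hχ
    have hcomp : ∀ x, φ₁ (B x) = φ x := fun x => by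
      rw [hB, map_add, map_smul, smul_eq_mul]
      simp only [δ, LinearMap.smul_apply, LinearMap.sub_apply, smul_eq_mul]
      field_simp
      ring
    convert h1 using 1
    refine LinearMap.ext fun x => ?_
    show χ' x = χ (((B⁻¹)⁻¹ : V ≃ₗ[F] V) x)
    rw [inv_inv, hχ']
    -- squaring is an involution
    have h4 : ∀ a : E, (a * a) * (a * a) = a := fun a => by
      have h2 : (2 : E) = 0 := by linear_combination hchar (1 : E)
      rcases hfour a with h | h | h | h <;> rw [h]
      · ring
      · ring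
      · grind
      · grind
    rw [← hcomp x]
    exact h4 _
  refine hall (all_of_comp hv fun a φ hφv => ?_)
  set c := a w + w * a 1 with hc
  let χ' : V →ₗ[F] E :=
    { toFun := fun x => φ x * φ x
      map_add' := fun x y => by rw [map_add]; linear_combination hchar (φ x * φ y)
      map_smul' := fun r x => by
        rcases scalar_eq hF r with rfl | rfl
        · simp
        · simp }
  have key : a.comp (φ.restrictScalars F) = ((a 1 + c) • φ).restrictScalars F + (Algebra.lmul F E c).comp χ' := by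
    refine LinearMap.ext fun x => ?_
    show a (φ x) = (a 1 + c) * φ x + c * (φ x * φ x)
    rcases hfour (φ x) with h | h | h | h <;> rw [h]
    · simp
    · linear_combination -hchar c
    · have h2 : (2 : E) = 0 := by linear_combination hchar (1 : E)
      rw [hc]
      grind
    · have h2 : (2 : E) = 0 := by linear_combination hchar (1 : E)
      rw [map_add, hc]
      grind
  rw [key]
  refine (Y E M v).add_mem (S.mem_of_linear _ (by rw [LinearMap.smul_apply, hφv, smul_zero])) ?_
  exact S.lmul_mem_ID hv c _ (hsq φ hφv χ' fun x => rfl)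

/-- elements fixing the line pointwise are linear -/
theorem Setup.linear_lineFix (S : Setup E M) (hF : Nat.card F = 2) (hE : finrank F E = 2) {v : V} (hv : v ≠ 0)
    (hall : ¬ All E M v) {s : V ≃ₗ[F] V} (hs : s ∈ M ⊓ lineFix E v) :
    ∀ (e : E) (x : V), s (e • x) = e • s x := by
  classical
  obtain ⟨hsM, hsL⟩ := hs
  have hquot : ∀ (e : E) (x : V), s (e • x) - e • s x ∈ Submodule.span E {v} := by
    intro e x
    by_contra hnot
    obtain ⟨φ, h1, h2⟩ := exists_fn_line hnot
    have hinv : ∀ f : E, (s⁻¹ : V ≃ₗ[F] V) (f • v) = (LinearMap.id : E →ₗ[F] E) f • v :=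
      fun f => s.symm_apply_eq.2 (hsL f).symm
    have h3 := S.linear_Y hF hE hv hall (S.conj_mem (M.inv_mem hsM) hv hinv (S.mem_of_linear φ h2)) e x
    have h4 : φ (s (e • x)) = e * φ (s x) := h3
    rw [map_sub φ, φ.map_smul, h4, smul_eq_mul, sub_self] at h1
    exact zero_ne_one h1
  obtain ⟨u, hu⟩ := exists_notMem_line S.two_le v
  obtain ⟨b, i₀, -, -, hbv, -⟩ := exists_basis_pair hv hu
  let B : V →ₗ[E] V := b.constr E fun i => s (b i)
  have hBv : B v = v := by
    rw [← hbv, Basis.constr_basis, hbv]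
    simpa using hsL 1
  have hD : ∀ x, B x - s x ∈ Submodule.span E {v} := by
    intro x
    have h1 : x = ∑ i, b.repr x i • b i := (b.sum_repr x).symm
    rw [h1, map_sum, map_sum, ← Finset.sum_sub_distrib]
    refine Submodule.sum_mem _ fun i _ => ?_
    rw [map_smul, Basis.constr_basis]
    have := Submodule.neg_mem _ (hquot (b.repr x i) (b i))
    rwa [neg_sub] at this
  obtain ⟨φ₀, hφ₀⟩ := exists_fn_one (E := E) hv
  let ψ : V →ₗ[F] E :=
    (φ₀.restrictScalars F).comp ((B.restrictScalars F - s.toLinearMap).comp (s⁻¹ : V ≃ₗ[F] V).toLinearMap)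
  have hψk : Kills v ψ := fun e => by
    show φ₀ (B ((s⁻¹ : V ≃ₗ[F] V) (e • v)) - s ((s⁻¹ : V ≃ₗ[F] V) (e • v))) = 0
    rw [show (s⁻¹ : V ≃ₗ[F] V) (e • v) = e • v from s.symm_apply_eq.2 (hsL e).symm, map_smul B, hBv, hsL, sub_self,
      map_zero]
  have hel : ∀ x, el v ψ hψk (s x) = B x := fun x => by
    rw [el_apply]
    show s x + φ₀ (B (s.symm (s x)) - s (s.symm (s x))) • v = B x
    rw [LinearEquiv.symm_apply_apply]
    obtain ⟨c, hc⟩ := Submodule.mem_span_singleton.1 (hD x)
    rw [← hc, map_smul, hφ₀, smul_eq_mul, mul_one, hc, add_sub_cancel]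
  have hmem : el v ψ hψk * s ∈ M := S.norm_le _ (det_trivial hF _) fun e => ⟨e, fun x => by
    rw [LinearEquiv.mul_apply, LinearEquiv.mul_apply, hel, hel, map_smul]⟩
  have hψY : ψ ∈ Y E M v := ⟨hψk, by simpa using M.mul_mem hmem (M.inv_mem hsM)⟩
  intro e x
  have h5 := hel (e • x)
  rw [map_smul B, ← hel x, el_apply, el_apply, smul_add, smul_smul, ← S.linear_Y hF hE hv hall hψY e (s x)] at h5
  have h6 : ψ (s (e • x)) = ψ (e • s x) := by
    rw [← sub_eq_zero, ← map_sub]
    obtain ⟨c, hc⟩ := Submodule.mem_span_singleton.1 (hquot e x)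
    rw [← hc, hψk]
  rw [h6] at h5
  exact add_right_cancel h5

end CfsgLib.Perm.ExtField
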